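import Cfsg.Agent.ThreeOrders.Facts
import Cfsg.Agent.PSLThreeSpectrum.Upper
import Cfsg.Agent.EPPOClass.Outer
import Cfsg.Agent.PrimeGraphCIT.Sz

/-!
Facts about PSL(3,4), Suzuki groups and small Sylow normalisers.
-/

set_option autoImplicit false
set_option linter.style.haveILetI false
set_option linter.unusedSectionVars false

namespace Cfsg.Agent.ThreeOrders

open Matrix

section PSL34

variable {F : Type*} [Field F] [Fintype F]

local notation "SG" => Matrix.SpecialLinearGroup (Fin 3) F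
local notation "PG" => Matrix.ProjectiveSpecialLinearGroup (Fin 3) F

theorem psl34_orders (hF : Fintype.card F = 4) (x : PG) :
    orderOf x ∣ 7 ∨ orderOf x ∣ 5 ∨ orderOf x ∣ 3 ∨ orderOf x ∣ 4 := by
  haveI : Fact (Nat.Prime 2) := ⟨Nat.prime_two⟩
  haveI : CharP F 2 := charP_of_card_eq_prime_pow (f := 2) (by rw [hF]; norm_num)
  have h := PSLThreeSpectrum.order_mem 2 x
  rw [hF] at h
  norm_num at h
  rcases h with h | h | h | h | h
  · exact Or.inl h
  · exact Or.inr (Or.inl h)
  · exact Or.inr (Or.inr (Or.inl h))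
  · exact Or.inr (Or.inr (Or.inr (h.trans (by norm_num))))
  · exact Or.inr (Or.inr (Or.inr h))

theorem psl34_eppo (hF : Fintype.card F = 4) : S3992.EPPO PG := by
  intro g hg
  have h1 : orderOf g ≠ 1 := fun e => hg (orderOf_eq_one_iff.1 e)
  rcases psl34_orders hF g with h | h | h | h
  · exact IsPrimePow.dvd (show Nat.Prime 7 by norm_num).isPrimePow h h1
  · exact IsPrimePow.dvd (show Nat.Prime 5 by norm_num).isPrimePow h h1
  · exact IsPrimePow.dvd Nat.prime_three.isPrimePow h h1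
  · exact IsPrimePow.dvd ((Nat.prime_two.isPrimePow).pow (two_ne_zero)) (h.trans (by norm_num)) h1

theorem psl34_conj (hF : Fintype.card F = 4) (s u : PG) (hs : orderOf s = 2) (hu : orderOf u = 2) :
    IsConj s u := by
  haveI : CharP F 2 := charP_of_card_eq_prime_pow (f := 2) (by rw [hF]; norm_num)
  have hlift : ∀ x : PG, orderOf x = 2 → ∃ g : SG, QuotientGroup.mk' (Subgroup.center SG) g = x ∧ orderOf g = 2 := by
    intro x hx
    obtain ⟨g, rfl⟩ := QuotientGroup.mk'_surjective (Subgroup.center SG) x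
    have hx2 : QuotientGroup.mk' (Subgroup.center SG) g ^ 2 = 1 := orderOf_dvd_iff_pow_eq_one.1 (dvd_of_eq hx)
    rw [← map_pow, QuotientGroup.mk'_apply, QuotientGroup.eq_one_iff,
      Matrix.SpecialLinearGroup.mem_center_iff] at hx2
    obtain ⟨r, hr, hg⟩ := hx2
    have h6 : g ^ 6 = 1 := by
      refine Subtype.ext ?_
      rw [show 6 = 2 * 3 from rfl, pow_mul, Matrix.SpecialLinearGroup.coe_pow, ← hg, ← map_pow]
      rw [Fintype.card_fin] at hr
      rw [hr, map_one, Matrix.SpecialLinearGroup.coe_one]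
    have he : QuotientGroup.mk' (Subgroup.center SG) (g ^ 3) = QuotientGroup.mk' (Subgroup.center SG) g := by
      rw [map_pow, pow_succ, orderOf_dvd_iff_pow_eq_one.1 (dvd_of_eq hx), one_mul]
    refine ⟨g ^ 3, he, ?_⟩
    refine (Nat.dvd_prime Nat.prime_two).1 (orderOf_dvd_of_pow_eq_one (by rw [← pow_mul]; exact h6))
      |>.resolve_left fun e => ?_
    rw [orderOf_eq_one_iff] at e
    rw [e, map_one] at he
    rw [← he, orderOf_one] at hx
    norm_num at hx
  obtain ⟨a, rfl, ha⟩ := hlift s hs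
  obtain ⟨b, rfl, hb⟩ := hlift u hu
  refine MonoidHom.map_isConj _ ((Classical.isConj_involution_iff a b ha hb).2 ?_)
  have hrank : ∀ c : SG, orderOf c = 2 → ((c : Matrix (Fin 3) (Fin 3) F) - 1).rank = 1 := by
    intro c hc
    have hc2 : (c : Matrix (Fin 3) (Fin 3) F) * c = 1 := by
      rw [← Matrix.SpecialLinearGroup.coe_mul, ← pow_two, orderOf_dvd_iff_pow_eq_one.1 (dvd_of_eq hc),
        Matrix.SpecialLinearGroup.coe_one]
    have hsq : ((c : Matrix (Fin 3) (Fin 3) F) - 1) * ((c : Matrix (Fin 3) (Fin 3) F) - 1) = 0 := by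
      rw [sub_mul, mul_sub, hc2, mul_one, one_mul]
      ext i j
      simp only [Matrix.sub_apply, Matrix.zero_apply]
      linear_combination ((1 : Matrix (Fin 3) (Fin 3) F) i j - (c : Matrix (Fin 3) (Fin 3) F) i j) *
        (CharTwo.two_eq_zero : (2 : F) = 0)
    have h3 := Matrix.rank_add_rank_le_card_of_mul_eq_zero hsq
    rw [Fintype.card_fin] at h3
    have h0 : ((c : Matrix (Fin 3) (Fin 3) F) - 1).rank ≠ 0 := by
      intro e
      rw [Matrix.rank, Submodule.finrank_eq_zero, LinearMap.range_eq_bot] at e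
      have hz : (c : Matrix (Fin 3) (Fin 3) F) - 1 = 0 := Matrix.ext_iff_mulVec.2 fun v => by
        rw [Matrix.zero_mulVec]
        exact LinearMap.congr_fun e v
      have hc1 : c = 1 := Subtype.ext (by rw [Matrix.SpecialLinearGroup.coe_one]; exact sub_eq_zero.1 hz)
      rw [hc1, orderOf_one] at hc
      norm_num at hc
    omega
  rw [hrank a ha, hrank b hb]

theorem psl34_four (hF : Fintype.card F = 4) : ∃ x : PG, orderOf x = 4 := by
  haveI : CharP F 2 := charP_of_card_eq_prime_pow (f := 2) (by rw [hF]; norm_num)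
  let g : SG := ⟨!![1, 1, 0; 0, 1, 1; 0, 0, 1], by simp [Matrix.det_fin_three]⟩
  have hg2 : ((g ^ 2 : SG) : Matrix (Fin 3) (Fin 3) F) = !![1, 0, 1; 0, 1, 0; 0, 0, 1] := by
    rw [pow_two, Matrix.SpecialLinearGroup.coe_mul]
    ext i j
    fin_cases i <;> fin_cases j <;> simp [g, Matrix.mul_apply, Fin.sum_univ_three, CharTwo.add_self_eq_zero]
  refine ⟨QuotientGroup.mk' (Subgroup.center SG) g, orderOf_eq_prime_pow (p := 2) (n := 1) (hp := ⟨Nat.prime_two⟩) ?_ ?_⟩
  · rw [pow_one, ← map_pow, QuotientGroup.mk'_apply, QuotientGroup.eq_one_iff,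
      Matrix.SpecialLinearGroup.mem_center_iff, hg2]
    rintro ⟨r, -, hr⟩
    have := congrFun (congrFun hr 0) 2
    simp at this
  · rw [← map_pow, show 2 ^ (1 + 1) = 2 * 2 from rfl, pow_mul]
    convert map_one (QuotientGroup.mk' (Subgroup.center SG))
    refine Subtype.ext ?_
    rw [pow_two, Matrix.SpecialLinearGroup.coe_mul, hg2, Matrix.SpecialLinearGroup.coe_one]
    ext i j
    fin_cases i <;> fin_cases j <;> simp [Matrix.mul_apply, Fin.sum_univ_three, CharTwo.add_self_eq_zero]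

end PSL34

/-- Sylow normalisers in a simple group from the order -/
theorem normalizer_of_simple {M : Type*} [Group M] [Finite M] [IsSimpleGroup M] {p k m : ℕ} [hp : Fact p.Prime]
    (hcard : Nat.card M = p * k) (hk : ¬ p ∣ k) (hk1 : k ≠ 1)
    (huniq : ∀ d ∈ Finset.range (k + 1), d ∣ k → d % p = 1 → d ≠ 1 → k / d = m) (P : Sylow p M) :
    Nat.card P = p ∧ Nat.card ↥(Subgroup.normalizer ((P : Subgroup M) : Set M)) = p * m := by
  have hP := EPPOClass.sylow_card p k hcard hk P
  refine ⟨hP, ?_⟩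
  set N := Subgroup.normalizer ((P : Subgroup M) : Set M)
  have hk0 : k ≠ 0 := fun e => hk (e ▸ dvd_zero p)
  have hmul := N.card_mul_index
  rw [hcard] at hmul
  obtain ⟨c, hc⟩ : p ∣ Nat.card N := (dvd_of_eq hP.symm).trans (Subgroup.card_dvd_of_le Subgroup.le_normalizer)
  rw [hc, mul_assoc] at hmul
  have hck := Nat.eq_of_mul_eq_mul_left hp.out.pos hmul
  have hmod : N.index % p = 1 := by
    rw [show N.index = Nat.card (Sylow p M) from P.card_eq_index_normalizer.symm]
    exact Eq.trans (card_sylow_modEq_one p M) (Nat.mod_eq_of_lt hp.out.one_lt)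
  have hne : N.index ≠ 1 := fun e => by
    rw [Subgroup.index_eq_one] at e
    rcases IsSimpleGroup.eq_bot_or_eq_top_of_normal (P : Subgroup M) (Subgroup.normalizer_eq_top_iff.1 e) with h | h
    · rw [show Nat.card P = Nat.card (P : Subgroup M) from rfl, h, Subgroup.card_bot] at hP
      exact hp.out.ne_one hP.symm
    · rw [show Nat.card P = Nat.card (P : Subgroup M) from rfl, h, Subgroup.card_top, hcard] at hP
      exact hk1 (Nat.eq_of_mul_eq_mul_left hp.out.pos (hP.trans (mul_one p).symm))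
  have hdk : N.index ∣ k := ⟨c, by rw [← hck, mul_comm]⟩
  rw [hc, ← huniq N.index (Finset.mem_range.2 (Nat.lt_succ_of_le (Nat.le_of_dvd (Nat.pos_of_ne_zero hk0) hdk)))
    hdk hmod hne, ← hck, Nat.mul_div_cancel _ (Nat.pos_of_ne_zero fun e => hk0 (by rw [← hck, e, mul_zero]))]

theorem sz_four {F : Type*} [Field F] [Fintype F] {m : ℕ} (hm : 1 ≤ m)
    (hF : Fintype.card F = 2 ^ (2 * m + 1)) : ∃ x : Cfsg.Sz F m, orderOf x = 4 := by
  haveI : Fact (Nat.Prime 2) := ⟨Nat.prime_two⟩
  let P : Sylow 2 (Cfsg.Sz F m) := default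
  obtain ⟨hc, hP, -⟩ := PrimeGraphCIT.sz_sylow hm hF P
  obtain ⟨z, hz⟩ : ∃ z : P, z * z ≠ 1 := by
    by_contra hall
    push Not at hall
    have hinv : ∀ a : P, a⁻¹ = a := fun a => inv_eq_of_mul_eq_one_left (hall a)
    have htop : Subgroup.center (P : Subgroup (Cfsg.Sz F m)) = ⊤ :=
      eq_top_iff.2 fun a _ => Subgroup.mem_center_iff.2 fun b => by
        calc b * a = (b * a)⁻¹ := (hinv _).symm
          _ = a⁻¹ * b⁻¹ := mul_inv_rev _ _
          _ = a * b := by rw [hinv, hinv]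
    rw [htop, Subgroup.card_top, hP, Nat.card_eq_fintype_card, hF] at hc
    have h8 : 2 ^ 3 ≤ 2 ^ (2 * m + 1) := Nat.pow_le_pow_right two_pos (by omega)
    nlinarith
  obtain ⟨j, hj⟩ := IsPGroup.iff_orderOf.1 P.2 z
  have hj2 : 2 ≤ j := by
    by_contra hlt
    refine hz ?_
    rw [← pow_two, ← orderOf_dvd_iff_pow_eq_one, hj]
    exact (pow_dvd_pow 2 (show j ≤ 1 by omega))
  exact ⟨(z : Cfsg.Sz F m) ^ (orderOf (z : Cfsg.Sz F m) / 4), orderOf_pow_orderOf_div (orderOf_pos _).ne'
    (by rw [Subgroup.orderOf_coe, hj]; exact pow_dvd_pow 2 hj2)⟩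

end Cfsg.Agent.ThreeOrders
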