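import Cfsg.Agent.ThreeOrders.Tools
import Cfsg.Agent.ThreeOrders.Small
import Cfsg.Agent.S0254

/-!
No outer elements over the groups with elements of order 4.
-/

set_option autoImplicit false
set_option linter.style.haveILetI false
set_option linter.unusedSectionVars false

open Subgroup

namespace Cfsg.Agent.ThreeOrders

universe u

variable {H : Type u} [Group H] [Finite H] {T : Subgroup H} [T.Normal]

theorem odd_mem {g : H} (hidx : ∀ r : ℕ, r.Prime → r ∣ T.index → r = 2) (hg : ¬ 2 ∣ orderOf g) : g ∈ T := by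
  rw [← QuotientGroup.eq_one_iff, ← orderOf_eq_one_iff]
  have hco : (orderOf g).Coprime T.index := Nat.coprime_of_dvd fun d hd h1 h2 => hg (hidx d hd h2 ▸ h1)
  exact Nat.eq_one_of_dvd_coprimes hco (orderOf_map_dvd (QuotientGroup.mk' T) g)
    (by rw [Subgroup.index_eq_card]; exact orderOf_dvd_natCard _)

/-- a self-centralising Sylow 7-subgroup with normaliser of order 21 forbids outer elements -/
theorem seven_no_outer (hH : PrimeGraphCIT.CIT H) (hidx : ∀ r : ℕ, r.Prime → r ∣ T.index → r = 2)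
    [hp : Fact (Nat.Prime 7)] {k : ℕ} (hcard : Nat.card T = 7 * k) (hk : ¬ 7 ∣ k) (P : Sylow 7 T)
    (hN : Nat.card ↥(normalizer ((P : Subgroup T) : Set T)) = 7 * 3) (h7 : ∀ x : T, 7 ∣ orderOf x → orderOf x = 7) :
    T = ⊤ := by
  have hpH : ¬ 7 * 7 ∣ Nat.card H := by
    rw [← T.card_mul_index, hcard, mul_assoc, Nat.mul_dvd_mul_iff_left (by norm_num : 0 < 7), hp.out.dvd_mul]
    rintro (h' | h')
    · exact hk h'
    · exact absurd (hidx 7 hp.out h') (by norm_num)
  have hno : ∀ ℓ : ℕ, ℓ.Prime → ℓ ≠ 7 → ∀ g : H, orderOf g ≠ 7 * ℓ := by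
    intro ℓ hℓ hℓ7 g hg
    rcases eq_or_ne ℓ 2 with rfl | hℓ2
    · have h1 : orderOf (g ^ 2) = 7 := by rw [orderOf_pow, hg]; rfl
      have h2 : orderOf (g ^ 7) = 2 := by rw [orderOf_pow, hg]; rfl
      exact hH.no_commute (fun e => by rw [e, orderOf_one] at h2; norm_num at h2)
        ⟨1, by rw [pow_one, ← h2, pow_orderOf_eq_one]⟩ hp.out (by norm_num) h1 ((Commute.refl g).pow_pow 7 2)
    · have hgT : g ∈ T := odd_mem hidx (by
        rw [hg, Nat.prime_two.dvd_mul]
        rintro (h' | h')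
        · norm_num at h'
        · exact hℓ2 ((Nat.prime_dvd_prime_iff_eq Nat.prime_two hℓ).1 h').symm)
      have := h7 ⟨g, hgT⟩ (by rw [Subgroup.orderOf_mk, hg]; exact dvd_mul_right 7 ℓ)
      rw [Subgroup.orderOf_mk, hg] at this
      have := hℓ.two_le
      omega
  obtain ⟨hdiv, g, hg⟩ := aut_full P (EPPOClass.sylow_card 7 k hcard hk P) hpH hno hN
  by_contra hne
  obtain ⟨r, hr, hrd⟩ := Nat.exists_prime_and_dvd (fun e' => hne (index_eq_one.1 e'))
  obtain rfl := hidx r hr hrd
  have h6 : 6 ∣ orderOf g := (Nat.mul_dvd_mul_right hrd 3).trans hg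
  have ho : orderOf (g ^ (orderOf g / 6)) = 6 := orderOf_pow_orderOf_div (orderOf_pos g).ne' h6
  set z := g ^ (orderOf g / 6) with hz
  have h1 : orderOf (z ^ 2) = 3 := by rw [orderOf_pow, ho]; rfl
  have h2 : orderOf (z ^ 3) = 2 := by rw [orderOf_pow, ho]; rfl
  exact hH.no_commute (fun e => by rw [e, orderOf_one] at h2; norm_num at h2)
    ⟨1, by rw [pow_one, ← h2, pow_orderOf_eq_one]⟩ Nat.prime_three (by norm_num) h1 ((Commute.refl z).pow_pow 3 2)

/-- a dihedral Sylow subgroup of order 8 inside an S4 forbids outer elements -/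
theorem eight_no_outer (hH : PrimeGraphCIT.CIT H) (h8 : ∀ x : H, orderOf x ≠ 8)
    (hidx : ∀ r : ℕ, r.Prime → r ∣ T.index → r = 2) (hcard8 : ∀ P : Sylow 2 T, Nat.card P = 8)
    (a c w : T) (ha : a * a = 1) (hc : c * c * (c * c) = 1) (hc2 : c * c ≠ 1) (hac : a * c = c⁻¹ * a)
    (hw : orderOf w = 3) (hwt : w * (c * c) * w⁻¹ = a) (hwa : w * a * w⁻¹ = a * (c * c)) : T = ⊤ := by
  classical
  haveI : Fact (Nat.Prime 2) := ⟨Nat.prime_two⟩
  haveI : Fact (Nat.Prime 3) := ⟨Nat.prime_three⟩
  have hc4 : c ^ (4 : ℤ) = 1 := by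
    rw [show (4 : ℤ) = ((4 : ℕ) : ℤ) from rfl, zpow_natCast]
    calc c ^ 4 = c * c * (c * c) := by rw [pow_succ, pow_succ, pow_succ, pow_one, mul_assoc (c * c)]
      _ = 1 := hc
  have hainv : a⁻¹ = a := inv_eq_of_mul_eq_one_left ha
  have hconjc : a * c * a⁻¹ = c⁻¹ := by rw [hac, mul_inv_cancel_right]
  have hconj : ∀ i : ℤ, a * c ^ i = c ^ (-i) * a := fun i => by
    rw [← mul_inv_eq_iff_eq_mul, ← conj_zpow, hconjc, inv_zpow, zpow_neg]
  let D : Subgroup T :=
    { carrier := {g | ∃ i : ℤ, g = c ^ i ∨ g = c ^ i * a}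
      one_mem' := ⟨0, Or.inl (zpow_zero c).symm⟩
      mul_mem' := by
        rintro g g' ⟨i, rfl | rfl⟩ ⟨j, rfl | rfl⟩
        · exact ⟨i + j, Or.inl (zpow_add c i j).symm⟩
        · exact ⟨i + j, Or.inr (by rw [← mul_assoc, ← zpow_add])⟩
        · exact ⟨i + -j, Or.inr (by rw [mul_assoc, hconj, ← mul_assoc, ← zpow_add])⟩
        · exact ⟨i + -j, Or.inl (by
            rw [mul_assoc, ← mul_assoc a, hconj, mul_assoc (c ^ (-j)), ha, mul_one, ← zpow_add])⟩
      inv_mem' := by
        rintro g ⟨i, rfl | rfl⟩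
        · exact ⟨-i, Or.inl (zpow_neg c i).symm⟩
        · exact ⟨i, Or.inr (by rw [mul_inv_rev, hainv, ← zpow_neg, hconj, neg_neg])⟩ }
  have haD : a ∈ D := ⟨0, Or.inr (by rw [zpow_zero, one_mul])⟩
  have hcD : c ∈ D := ⟨1, Or.inl (zpow_one c).symm⟩
  have hinvol : ∀ i : ℤ, (c ^ i * a) * (c ^ i * a) = 1 := fun i => by
    rw [mul_assoc, ← mul_assoc a, hconj, mul_assoc (c ^ (-i)), ha, mul_one, ← zpow_add, add_neg_cancel, zpow_zero]
  have hD2 : IsPGroup 2 D := by
    rintro ⟨g, i, rfl | rfl⟩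
    · refine ⟨2, Subtype.ext ?_⟩
      show (c ^ i) ^ (2 ^ 2) = 1
      rw [← zpow_natCast, ← zpow_mul, mul_comm, zpow_mul]
      norm_num
      rw [show c ^ 4 = c ^ (4 : ℤ) by norm_cast, hc4, one_zpow]
    · exact ⟨1, Subtype.ext (show (c ^ i * a) ^ (2 ^ 1) = 1 by rw [pow_one, pow_two]; exact hinvol i)⟩
  obtain ⟨P, hDP⟩ := hD2.exists_le_sylow
  have hcI : ∀ i : ℤ, c ^ i = c ^ (i % 4) := fun i => by
    calc c ^ i = c ^ (i % 4 + 4 * (i / 4)) := congrArg (c ^ ·) (by omega)
      _ = c ^ (i % 4) := by rw [zpow_add, zpow_mul, hc4, one_zpow, mul_one]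
  have hc1 : c ≠ 1 := fun e' => hc2 (by rw [e', mul_one])
  have hca : a * c ≠ c * a := by
    intro e'
    rw [hac] at e'
    exact hc2 (by nth_rw 1 [← mul_right_cancel e']; exact inv_mul_cancel c)
  have hPD : (P : Subgroup T) = D := by
    refine (Subgroup.eq_of_le_of_card_ge hDP ?_).symm
    rw [show Nat.card (P : Subgroup T) = 8 from hcard8 P]
    obtain ⟨j, hj⟩ := IsPGroup.iff_card.1 hD2
    have h5 : 5 ≤ Nat.card D := by
      have hcard : ({1, c, c * c, c⁻¹, a} : Finset T).card = 5 := by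
        rw [Finset.card_insert_of_notMem, Finset.card_insert_of_notMem, Finset.card_insert_of_notMem,
          Finset.card_pair]
        · exact fun e' => hca (by rw [← e']; group)
        · simp only [Finset.mem_insert, Finset.mem_singleton, not_or]
          refine ⟨fun e' => hc1 ?_, fun e' => hca ?_⟩
          · calc c = c * c * (c * c) * (c⁻¹ * c⁻¹ * c⁻¹) := by group
              _ = 1 := by rw [hc, one_mul]; nth_rw 1 [← e']; group
          · rw [← e']; group
        · simp only [Finset.mem_insert, Finset.mem_singleton, not_or]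
          exact ⟨fun e' => hc1 (mul_eq_left.1 e'.symm), fun e' => hc2 (by nth_rw 1 [e']; group),
            fun e' => hca (by rw [e'])⟩
        · simp only [Finset.mem_insert, Finset.mem_singleton, not_or]
          exact ⟨hc1.symm, hc2.symm, fun e' => hc1 (inv_eq_one.1 e'.symm),
            fun e' => hca (by rw [← e', one_mul, mul_one])⟩
      have hsub : (({1, c, c * c, c⁻¹, a} : Finset T) : Set T) ⊆ (D : Set T) := by
        simp only [Finset.coe_insert, Finset.coe_singleton, Set.insert_subset_iff, Set.singleton_subset_iff,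
          SetLike.mem_coe]
        exact ⟨D.one_mem, hcD, D.mul_mem hcD hcD, D.inv_mem hcD, haD⟩
      have := Set.ncard_le_ncard hsub
      rw [Set.ncard_coe_finset, hcard] at this
      exact this
    have hle : Nat.card D ≤ 8 := (Subgroup.card_le_of_le hDP).trans (le_of_eq (hcard8 P))
    rw [hj] at h5 hle ⊢
    have h3 : 3 ≤ j := by
      by_contra hlt
      have := Nat.pow_le_pow_right two_pos (show j ≤ 2 by omega)
      omega
    exact le_trans (by norm_num) (Nat.pow_le_pow_right two_pos h3)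
  by_contra hne
  obtain ⟨r, hr, hrd⟩ := Nat.exists_prime_and_dvd (fun e' => hne (index_eq_one.1 e'))
  obtain rfl := hidx r hr hrd
  obtain ⟨H₀, hTH₀, hH₀⟩ := exists_index_prime (T := T) Nat.prime_two hrd
  have hsup : normalizer ((((P : Subgroup T).map T.subtype).subgroupOf H₀ : Subgroup H₀) : Set H₀) ⊔ T.subgroupOf H₀ = ⊤ := by
    let ι : T ≃* T.subgroupOf H₀ := (subgroupOfEquivOfLe hTH₀).symm
    have hm : ((P : Subgroup T).map T.subtype).subgroupOf H₀ =
        (((P : Subgroup T).map ι.toMonoidHom).map (T.subgroupOf H₀).subtype) := by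
      rw [map_map]
      ext z
      constructor
      · rintro hz
        obtain ⟨b, hb, hbe⟩ := mem_subgroupOf.1 hz
        exact ⟨b, hb, Subtype.ext hbe⟩
      · rintro ⟨b, hb, rfl⟩
        exact mem_subgroupOf.2 ⟨b, hb, rfl⟩
    rw [hm]
    exact Sylow.normalizer_sup_eq_top (P.mapSurjective (f := ι.toMonoidHom) ι.surjective)
  obtain ⟨y0, hy0N, hy0T, k, hk⟩ := exists_outer (T.subgroupOf H₀) _ hsup Nat.prime_two (by rw [hH₀])
  set y : H := (y0 : H) with hy
  have hyT : y ∉ T := hy0T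
  have hyo : orderOf y = 2 ^ (k + 1) := by rw [hy, Subgroup.orderOf_coe, hk]
  have hy2T : y * y ∈ T := by
    haveI : (T.subgroupOf H₀).Normal := inferInstance
    exact mul_self_mem_of_index_two hH₀ y0
  have hyP : ∀ b ∈ (P : Subgroup T), ∃ d ∈ (P : Subgroup T), (d : H) = y * b * y⁻¹ := by
    intro b hb
    have hb0 : (⟨(b : H), hTH₀ b.2⟩ : H₀) ∈ ((P : Subgroup T).map T.subtype).subgroupOf H₀ :=
      mem_subgroupOf.2 (mem_map_of_mem T.subtype hb)
    obtain ⟨d, hd, hde⟩ := mem_subgroupOf.1 ((mem_normalizer_iff.1 hy0N _).1 hb0)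
    exact ⟨d, hd, hde⟩
  have hy2P : (⟨y * y, hy2T⟩ : T) ∈ (P : Subgroup T) := by
    have hN : (⟨y * y, hy2T⟩ : T) ∈ normalizer ((P : Subgroup T) : Set T) := by
      apply mem_normalizer_fintype
      intro b hb
      obtain ⟨d, hd, hde⟩ := hyP b hb
      obtain ⟨d', hd', hde'⟩ := hyP d hd
      have e' : (⟨y * y, hy2T⟩ : T) * b * (⟨y * y, hy2T⟩ : T)⁻¹ = d' := Subtype.ext (by
        show y * y * (b : H) * (y * y)⁻¹ = d'
        rw [hde', hde]; group)
      rwa [e']
    refine (IsPGroup.inf_normalizer_sylow (P := zpowers (⟨y * y, hy2T⟩ : T)) (fun g => ⟨k + 1, Subtype.ext ?_⟩) P).le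
      ⟨mem_zpowers _, hN⟩ |>.2
    obtain ⟨i, hi⟩ := mem_zpowers_iff.1 g.2
    rw [Subgroup.coe_pow, ← hi, ← zpow_natCast, ← zpow_mul, mul_comm, zpow_mul, zpow_natCast, Subgroup.coe_one]
    have : (⟨y * y, hy2T⟩ : T) ^ 2 ^ (k + 1) = 1 := Subtype.ext (by
      show (y * y) ^ 2 ^ (k + 1) = 1
      rw [← pow_two, ← pow_mul, mul_comm, pow_mul, ← hyo, pow_orderOf_eq_one, one_pow])
    rw [this, one_zpow]
  have hmemP : ∀ g ∈ (P : Subgroup T), ∃ i : ℤ, g = c ^ i ∨ g = c ^ i * a := fun g hg => by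
    rw [hPD] at hg; exact hg
  have hcP : c ∈ (P : Subgroup T) := hPD ▸ hcD
  have haP : a ∈ (P : Subgroup T) := hPD ▸ haD
  -- `y` sends c to a generator
  obtain ⟨d, hdP, hde⟩ := hyP c hcP
  obtain ⟨ε, hεo, hε⟩ : ∃ ε : ℤ, (ε = 1 ∨ ε = 3) ∧ y * (c : H) * y⁻¹ = ((c ^ ε : T) : H) := by
    obtain ⟨j, rfl | rfl⟩ := hmemP d hdP
    · rw [hcI j] at hde
      rcases (by omega : j % 4 = 0 ∨ j % 4 = 1 ∨ j % 4 = 2 ∨ j % 4 = 3) with h' | h' | h' | h' <;> rw [h'] at hde
      · exfalso
        rw [zpow_zero, OneMemClass.coe_one, eq_comm, conj_eq_one_iff] at hde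
        exact hc1 (Subtype.ext hde)
      · exact ⟨1, Or.inl rfl, hde.symm⟩
      · exfalso
        apply hc2
        refine Subtype.ext ?_
        rw [Subgroup.coe_mul, OneMemClass.coe_one, ← conj_eq_one_iff (a := y)]
        calc y * ((c : H) * c) * y⁻¹ = (y * c * y⁻¹) * (y * c * y⁻¹) := by group
          _ = ((c ^ (2 : ℤ) * c ^ (2 : ℤ) : T) : H) := by rw [← hde, Subgroup.coe_mul]
          _ = 1 := by rw [← zpow_add, show (2 : ℤ) + 2 = 4 from rfl, hc4, OneMemClass.coe_one]
      · exact ⟨3, Or.inr rfl, hde.symm⟩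
    · exfalso
      apply hc2
      refine Subtype.ext ?_
      rw [Subgroup.coe_mul, OneMemClass.coe_one, ← conj_eq_one_iff (a := y)]
      calc y * ((c : H) * c) * y⁻¹ = (y * c * y⁻¹) * (y * c * y⁻¹) := by group
        _ = (((c ^ j * a) * (c ^ j * a) : T) : H) := by rw [← hde, ← Subgroup.coe_mul]
        _ = 1 := by rw [hinvol, OneMemClass.coe_one]
  have hεpow : ∀ i : ℤ, y * ((c ^ i : T) : H) * y⁻¹ = ((c ^ (ε * i) : T) : H) := by
    intro i
    rw [Subgroup.coe_zpow, ← conj_zpow, hε, Subgroup.coe_zpow, Subgroup.coe_zpow, ← zpow_mul]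
  have ht : y * ((c * c : T) : H) * y⁻¹ = ((c * c : T) : H) := by
    rw [show c * c = c ^ (2 : ℤ) by rw [zpow_two], hεpow]
    rcases hεo with rfl | rfl
    · norm_num
    · rw [hcI (3 * 2)]; norm_num
  obtain ⟨d', hd'P, hd'e⟩ := hyP a haP
  obtain ⟨i, hi⟩ : ∃ i : ℤ, y * (a : H) * y⁻¹ = ((c ^ i * a : T) : H) := by
    obtain ⟨i, rfl | rfl⟩ := hmemP d' hd'P
    swap
    · exact ⟨i, hd'e.symm⟩
    exfalso
    have hsq : (((c ^ i : T) : H)) * ((c ^ i : T) : H) = 1 := by
      rw [hd'e]
      calc y * (a : H) * y⁻¹ * (y * a * y⁻¹) = y * ((a * a : T) : H) * y⁻¹ := by rw [Subgroup.coe_mul]; group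
        _ = 1 := by rw [ha, OneMemClass.coe_one]; group
    have hsq' : c ^ (i + i) = 1 := Subtype.ext (by rw [zpow_add, Subgroup.coe_mul, hsq]; rfl)
    rw [hcI] at hd'e
    rw [hcI] at hsq'
    rcases (by omega : i % 4 = 0 ∨ i % 4 = 1 ∨ i % 4 = 2 ∨ i % 4 = 3) with h' | h' | h' | h' <;> rw [h'] at hd'e
    · rw [zpow_zero, OneMemClass.coe_one, eq_comm, conj_eq_one_iff] at hd'e
      have ha1 : a = 1 := Subtype.ext hd'e
      rw [ha1, mul_one, one_mul] at hca
      exact hca rfl
    · rw [show (i + i) % 4 = 2 by omega, zpow_two] at hsq'; exact hc2 hsq'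
    · rw [zpow_two] at hd'e
      have := hd'e.trans rfl
      rw [← ht] at this
      have hat : (a : H) = ((c * c : T) : H) := (mul_left_cancel (mul_right_cancel this)).symm
      exact hca (by rw [Subtype.ext hat]; group)
    · rw [show (i + i) % 4 = 2 by omega, zpow_two] at hsq'; exact hc2 hsq'
  by_cases hpar : i % 2 = 0
  · -- an outer element centralising the four-group ⟨a, c²⟩
    obtain ⟨z, hzT, hza, hzt⟩ : ∃ z : H, z ∉ T ∧ z * (a : H) = a * z ∧ z * ((c * c : T) : H) = ((c * c : T) : H) * z := by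
      rcases (by omega : i % 4 = 0 ∨ i % 4 = 2) with h' | h'
      · refine ⟨y, hyT, mul_inv_eq_iff_eq_mul.1 ?_, mul_inv_eq_iff_eq_mul.1 ht⟩
        rw [hi, hcI i, h', zpow_zero, one_mul]
      · refine ⟨(c : H) * y, fun hcy => hyT (by simpa using T.mul_mem (T.inv_mem c.2) hcy),
          mul_inv_eq_iff_eq_mul.1 ?_, mul_inv_eq_iff_eq_mul.1 ?_⟩
        · calc (c : H) * y * a * ((c : H) * y)⁻¹ = c * (y * a * y⁻¹) * (c : H)⁻¹ := by group
            _ = ((c * (c ^ i * a) * c⁻¹ : T) : H) := by rw [hi]; simp only [Subgroup.coe_mul, Subgroup.coe_inv]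
            _ = _ := by
              congr 1
              rw [hcI i, h', mul_assoc c, mul_assoc (c ^ (2 : ℤ)), ← zpow_neg_one c, hconj,
                ← mul_assoc (c ^ (2 : ℤ)), ← zpow_add, ← mul_assoc]
              nth_rw 1 [← zpow_one c]
              rw [← zpow_add, show (1 : ℤ) + (2 + - -1) = 4 from rfl, hc4, one_mul]
        · calc (c : H) * y * ((c * c : T) : H) * ((c : H) * y)⁻¹ = c * (y * ((c * c : T) : H) * y⁻¹) * (c : H)⁻¹ := by group
            _ = _ := by rw [ht, Subgroup.coe_mul]; group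
    set t : T := c * c with htdef
    have hTV : ∀ g : T, g * a = a * g → g * t = t * g → g = 1 ∨ g = t ∨ g = a ∨ g = a * t := by
      intro g hga hgt
      have htord : orderOf t = 2 := orderOf_eq_prime (by rw [pow_two]; exact hc) hc2
      have hgP : g ∈ (P : Subgroup T) := by
        have hcent : IsPGroup 2 (centralizer ({t} : Set T)) := (hH.subgroup T) t htord
        have hle : (P : Subgroup T) ≤ centralizer ({t} : Set T) := fun b hb => by
          rw [mem_centralizer_singleton_iff]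
          obtain ⟨j, rfl | rfl⟩ := hmemP b hb
          · rw [htdef, ← zpow_two, ← zpow_add, ← zpow_add, add_comm]
          · rw [htdef, ← zpow_two, mul_assoc, hconj, ← mul_assoc, ← mul_assoc, ← zpow_add, ← zpow_add,
              hcI (j + -2), hcI (2 + j), show (j + -2) % 4 = (2 + j) % 4 by omega]
        rw [← P.3 hcent hle, mem_centralizer_singleton_iff]
        exact hgt
      obtain ⟨j, rfl | rfl⟩ := hmemP g hgP
      · have h2 : c ^ (j + j) = 1 := by
          rw [hconj] at hga
          have := mul_right_cancel hga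
          calc c ^ (j + j) = c ^ j * c ^ j := zpow_add c j j
            _ = c ^ (-j) * c ^ j := by rw [← this]
            _ = 1 := by rw [← zpow_add, neg_add_cancel, zpow_zero]
        rw [hcI] at h2 ⊢
        rcases (by omega : j % 4 = 0 ∨ j % 4 = 1 ∨ j % 4 = 2 ∨ j % 4 = 3) with h' | h' | h' | h' <;> rw [h']
        · exact Or.inl (zpow_zero c)
        · rw [show (j + j) % 4 = 2 by omega, zpow_two] at h2; exact absurd h2 hc2
        · exact Or.inr (Or.inl (by rw [zpow_two]))
        · rw [show (j + j) % 4 = 2 by omega, zpow_two] at h2; exact absurd h2 hc2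
      · have h2 : c ^ (j + j) = 1 := by
          rw [mul_assoc, ha, mul_one, ← mul_assoc, hconj, mul_assoc, ha, mul_one] at hga
          calc c ^ (j + j) = c ^ j * c ^ j := zpow_add c j j
            _ = c ^ (-j) * c ^ j := by rw [← hga]
            _ = 1 := by rw [← zpow_add, neg_add_cancel, zpow_zero]
        rw [hcI] at h2
        rw [hcI j]
        rcases (by omega : j % 4 = 0 ∨ j % 4 = 1 ∨ j % 4 = 2 ∨ j % 4 = 3) with h' | h' | h' | h' <;> rw [h']
        · exact Or.inr (Or.inr (Or.inl (by rw [zpow_zero, one_mul])))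
        · rw [show (j + j) % 4 = 2 by omega, zpow_two] at h2; exact absurd h2 hc2
        · refine Or.inr (Or.inr (Or.inr ?_))
          rw [htdef, ← zpow_two, hconj, hcI (-2)]
          rfl
        · rw [show (j + j) % 4 = 2 by omega, zpow_two] at h2; exact absurd h2 hc2
    -- the element of order 3 permutes the outer centralising elements
    let X := {g : H // g * (a : H) = a * g ∧ g * (t : H) = (t : H) * g ∧ z⁻¹ * g ∈ T}
    have hwinv : ∀ b : H, b * (a : H) = a * b → b * (t : H) = t * b →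
        ((w : H) * b * (w : H)⁻¹) * (a : H) = a * ((w : H) * b * (w : H)⁻¹) ∧
        ((w : H) * b * (w : H)⁻¹) * (t : H) = t * ((w : H) * b * (w : H)⁻¹) := by
      intro b hba hbt
      have ea : (a : H) = w * t * (w : H)⁻¹ := by rw [← hwt]; rfl
      have eat : (a : H) * t = w * a * (w : H)⁻¹ := by rw [← Subgroup.coe_mul, ← hwa]; rfl
      have h1 : ((w : H) * b * (w : H)⁻¹) * (a : H) = a * ((w : H) * b * (w : H)⁻¹) := by
        rw [ea]
        calc _ = (w : H) * (b * t) * (w : H)⁻¹ := by group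
          _ = _ := by rw [hbt]; group
      refine ⟨h1, ?_⟩
      have h2 : ((w : H) * b * (w : H)⁻¹) * ((a : H) * t) = (a * t) * ((w : H) * b * (w : H)⁻¹) := by
        rw [eat]
        calc _ = (w : H) * (b * a) * (w : H)⁻¹ := by group
          _ = _ := by rw [hba]; group
      rw [← mul_assoc, h1, mul_assoc, mul_assoc (a : H) (t : H)] at h2
      exact mul_left_cancel h2
    have hstep : ∀ g : H, g ∈ zpowers (w : H) → ∀ b : H, b * (a : H) = a * b → b * (t : H) = t * b →
        (g * b * g⁻¹) * (a : H) = a * (g * b * g⁻¹) ∧ (g * b * g⁻¹) * (t : H) = t * (g * b * g⁻¹) := by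
      intro g hg
      obtain ⟨n, rfl⟩ : ∃ n : ℕ, (w : H) ^ n = g :=
        Submonoid.mem_powers_iff _ _ |>.1 ((isOfFinOrder_of_finite (w : H)).mem_powers_iff_mem_zpowers.2 hg)
      induction n with
      | zero => intro b hba hbt; simpa using ⟨hba, hbt⟩
      | succ n ih =>
        intro b hba hbt
        obtain ⟨h1, h2⟩ := hwinv b hba hbt
        have := ih (pow_mem (mem_zpowers (w : H)) n) _ h1 h2
        simpa [pow_succ, mul_assoc] using this
    letI : MulAction (zpowers (w : H)) X :=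
      { smul := fun g m => ⟨(g : H) * m.1 * (g : H)⁻¹, (hstep g g.2 _ m.2.1 m.2.2.1).1,
          (hstep g g.2 _ m.2.1 m.2.2.1).2, by
            have hgT : (g : H) ∈ T := zpowers_le.2 w.2 g.2
            rw [show z⁻¹ * ((g : H) * m.1 * (g : H)⁻¹) = (z⁻¹ * g * z) * (z⁻¹ * m.1) * (g : H)⁻¹ by group]
            refine T.mul_mem (T.mul_mem ?_ m.2.2.2) (T.inv_mem hgT)
            simpa using Subgroup.Normal.conj_mem (inferInstance : T.Normal) _ hgT z⁻¹⟩
        one_smul := fun m => Subtype.ext (show (1 : H) * m.1 * (1 : H)⁻¹ = m.1 by group)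
        mul_smul := fun x x' m => Subtype.ext
          (show ((x : H) * x') * m.1 * ((x : H) * x')⁻¹ = x * (x' * m.1 * (x' : H)⁻¹) * (x : H)⁻¹ by group) }
    have hta : t * a = a * t := by
      rw [htdef, ← zpow_two, hconj, hcI (-2)]
      rfl
    have hX : Nat.card X = 4 := by
      have hV : ∀ g ∈ ({1, t, a, a * t} : Finset T), g * a = a * g ∧ g * t = t * g := by
        intro g hg
        simp only [Finset.mem_insert, Finset.mem_singleton] at hg
        rcases hg with rfl | rfl | rfl | rfl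
        · simp
        · exact ⟨hta, rfl⟩
        · exact ⟨rfl, hta.symm⟩
        · exact ⟨by rw [mul_assoc, hta], by rw [← mul_assoc t, hta]⟩
      have hcardV : ({1, t, a, a * t} : Finset T).card = 4 := by
        have ha1 : a ≠ 1 := fun e' => hca (by rw [e', one_mul, mul_one])
        have hat : a ≠ t := fun e' => hca (by rw [e', htdef]; group)
        rw [Finset.card_insert_of_notMem, Finset.card_insert_of_notMem, Finset.card_pair]
        · exact fun e' => hc2 (mul_eq_left.1 e'.symm)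
        · simp only [Finset.mem_insert, Finset.mem_singleton, not_or]
          exact ⟨hat.symm, fun e' => ha1 (mul_eq_right.1 e'.symm)⟩
        · simp only [Finset.mem_insert, Finset.mem_singleton, not_or]
          refine ⟨hc2.symm, ha1.symm, fun e' => hat ?_⟩
          calc a = a * (a * t) := by rw [← e', mul_one]
            _ = t := by rw [← mul_assoc, ha, one_mul]
      rw [← hcardV, ← Nat.card_eq_finsetCard]
      symm
      refine Nat.card_congr (Equiv.ofBijective
        (fun g : ({1, t, a, a * t} : Finset T) => (⟨z * ((g : T) : H), ?_, ?_, ?_⟩ : X)) ⟨fun x x' e' => ?_, fun m => ?_⟩)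
      · exact ((show Commute z (a : H) from hza).mul_left (congrArg Subtype.val (hV _ g.2).1)).eq
      · exact ((show Commute z (t : H) from hzt).mul_left (congrArg Subtype.val (hV _ g.2).2)).eq
      · rw [inv_mul_cancel_left]; exact (g : T).2
      · exact Subtype.ext (Subtype.ext (mul_left_cancel (congrArg Subtype.val e')))
      · obtain ⟨m, hma, hmt, hmT⟩ := m
        have h1 : (z⁻¹ * m) * (a : H) = a * (z⁻¹ * m) :=
          ((show Commute z (a : H) from hza).inv_left.mul_left hma).eq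
        have h2 : (z⁻¹ * m) * (t : H) = t * (z⁻¹ * m) :=
          ((show Commute z (t : H) from hzt).inv_left.mul_left hmt).eq
        have hmem : (⟨z⁻¹ * m, hmT⟩ : T) ∈ ({1, t, a, a * t} : Finset T) := by
          simp only [Finset.mem_insert, Finset.mem_singleton]
          exact hTV _ (Subtype.ext h1) (Subtype.ext h2)
        exact ⟨⟨_, hmem⟩, Subtype.ext (mul_inv_cancel_left z m)⟩
    have hw3o : orderOf (w : H) = 3 := by rw [Subgroup.orderOf_coe, hw]
    have hmod := (IsPGroup.of_card (p := 3) (G := zpowers (w : H)) (n := 1)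
      (by rw [Nat.card_zpowers, hw3o, pow_one])).card_modEq_card_fixedPoints X
    rw [hX] at hmod
    obtain ⟨⟨m, hma, hmt, hmT⟩, hmfix⟩ : (MulAction.fixedPoints (zpowers (w : H)) X).Nonempty := by
      rw [Set.nonempty_iff_ne_empty]
      intro he
      rw [he, Nat.card_coe_set_eq, Set.ncard_empty] at hmod
      norm_num [Nat.ModEq] at hmod
    have hmw : Commute m (w : H) := (mul_inv_eq_iff_eq_mul.1
      (congrArg Subtype.val (hmfix ⟨(w : H), mem_zpowers _⟩))).symm
    have hto : orderOf (t : H) = 2 := by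
      rw [Subgroup.orderOf_coe]; exact orderOf_eq_prime (by rw [pow_two]; exact hc) hc2
    obtain ⟨n, hn⟩ := (hH (t : H) hto) ⟨m, mem_centralizer_singleton_iff.2 hmt⟩
    exact hH.no_commute (fun e' => hzT (by
      subst e'
      simpa using T.inv_mem hmT)) ⟨n, congrArg Subtype.val hn⟩ Nat.prime_three (by norm_num) hw3o hmw
  · -- otherwise some element has order 8
    obtain ⟨j, hj⟩ : ∃ j : ℤ, y * y = ((c ^ j : T) : H) := by
      obtain ⟨j, hj | hj⟩ := hmemP _ hy2P
      · exact ⟨j, congrArg Subtype.val hj⟩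
      exfalso
      have h1 : y * ((c ^ j * a : T) : H) * y⁻¹ = ((c ^ j * a : T) : H) := by
        rw [← hj]
        show y * (y * y) * y⁻¹ = y * y
        group
      have h2 : y * ((c ^ j * a : T) : H) * y⁻¹ = ((c ^ (ε * j) * (c ^ i * a) : T) : H) := by
        show y * (((c ^ j : T) : H) * (a : H)) * y⁻¹ = ((c ^ (ε * j) : T) : H) * ((c ^ i * a : T) : H)
        rw [← hεpow, ← hi]
        group
      have h3 : c ^ (ε * j + i) = c ^ j := by
        refine mul_right_cancel (b := a) ?_
        rw [zpow_add, mul_assoc]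
        exact Subtype.ext (h2.symm.trans h1)
      have h4 : c ^ (ε * j + i - j) = 1 := by rw [zpow_sub, h3, mul_inv_cancel]
      rw [hcI] at h4
      have hodd' : (ε * j + i - j) % 4 = 1 ∨ (ε * j + i - j) % 4 = 3 := by
        rcases hεo with rfl | rfl <;> omega
      rcases hodd' with h' | h' <;> rw [h'] at h4
      · rw [zpow_one] at h4; exact hc1 h4
      · refine hc1 ?_
        calc c = c ^ (4 : ℤ) * (c ^ (3 : ℤ))⁻¹ := by group
          _ = 1 := by rw [hc4, h4, inv_one, mul_one]
    have hord8 : ∀ x : H, ∀ n : ℤ, n % 2 = 1 → x * x = ((c ^ n : T) : H) → False := by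
      intro x n hn hx
      refine h8 x (orderOf_eq_prime_pow (p := 2) (n := 2) (hp := ⟨Nat.prime_two⟩) ?_ ?_)
      · rw [show 2 ^ 2 = 2 * 2 from rfl, pow_mul, pow_two, pow_two, hx, ← Subgroup.coe_mul, ← zpow_add, hcI,
          show (n + n) % 4 = 2 by omega, zpow_two]
        exact fun e' => hc2 (Subtype.ext e')
      · rw [show 2 ^ (2 + 1) = 2 * 4 from rfl, pow_mul, pow_two, hx, ← Subgroup.coe_pow, ← zpow_natCast, ← zpow_mul,
          hcI, show (n * ((4 : ℕ) : ℤ)) % 4 = 0 by omega, zpow_zero, OneMemClass.coe_one]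
    by_cases hjpar : j % 2 = 1
    · exact hord8 y j hjpar hj
    refine hord8 (y * a) (i + -j) (by omega) ?_
    calc y * (a : H) * (y * a) = (y * a * y⁻¹) * (y * y) * a := by group
      _ = ((c ^ i * a * c ^ j * a : T) : H) := by rw [hi, hj]; simp only [Subgroup.coe_mul]
      _ = _ := by
        congr 1
        rw [mul_assoc (c ^ i) a, hconj, mul_assoc, mul_assoc (c ^ (-j)), ha, mul_one, ← zpow_add]

end Cfsg.Agent.ThreeOrders
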