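import Cfsg.Agent.ThreeOrders.Tools
import Cfsg.Agent.ThreeOrders.Small

/-!
No outer elements over PSL(2,q), q = 3 or 5 mod 8.
-/

set_option autoImplicit false
set_option linter.style.haveILetI false
set_option linter.unusedSectionVars false

open Subgroup

namespace Cfsg.Agent.ThreeOrders

universe u

section Facts

variable {T : Type u} [Group T] [Finite T] {F : Type*} [Field F] [Fintype F]
  (hq : Fintype.card F % 8 = 3 ∨ Fintype.card F % 8 = 5)

local notation "PG" => Matrix.ProjectiveSpecialLinearGroup (Fin 2) F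

include hq in
theorem four_sylow (e : T ≃* PG) (P : Sylow 2 T) : Nat.card P = 4 := by
  haveI : Fact (Nat.Prime 2) := ⟨Nat.prime_two⟩
  obtain ⟨P', -, h2, -⟩ := PrimeGraphCIT.sylow_transfer e P
  exact h2 ▸ psl_sylow_four hq P'

theorem conj_of_equiv (e : T ≃* PG) (s u : T) (hs : orderOf s = 2) (hu : orderOf u = 2) : IsConj s u := by
  simpa using MonoidHom.map_isConj e.symm.toMonoidHom (psl_two_conj (e s) (e u) (by rw [e.orderOf_eq, hs])
    (by rw [e.orderOf_eq, hu]))

include hq in
/-- the centraliser of a Sylow 2-subgroup is itself -/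
theorem four_cent (e : T ≃* PG) (h4 : ∀ x : T, orderOf x ≠ 4) (P : Sylow 2 T) {g : T}
    (hg : ∀ a ∈ (P : Subgroup T), g * a = a * g) : g ∈ (P : Subgroup T) := by
  classical
  haveI : Fact (Nat.Prime 2) := ⟨Nat.prime_two⟩
  obtain ⟨k, hk⟩ : ∃ k, orderOf g = 2 ^ k := by
    refine ⟨_, Nat.eq_prime_pow_of_unique_prime_dvd (orderOf_pos g).ne' fun {ℓ} hℓ hd => ?_⟩
    by_contra hℓ2
    have hP4 : Nat.card (P : Subgroup T) = 4 := four_sylow hq e P
    haveI : Nontrivial (P : Subgroup T) := Finite.one_lt_card_iff_nontrivial.1 (by omega)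
    obtain ⟨a, ha⟩ := exists_ne (1 : (P : Subgroup T))
    obtain ⟨b, hb, hba⟩ : ∃ b : (P : Subgroup T), b ≠ 1 ∧ b ≠ a := by
      by_contra! hall
      have : Nat.card (P : Subgroup T) ≤ 2 := by
        calc Nat.card (P : Subgroup T) = (Set.univ : Set (P : Subgroup T)).ncard := (Set.ncard_univ _).symm
          _ ≤ ({1, a} : Set (P : Subgroup T)).ncard := Set.ncard_le_ncard (fun v _ => (em (v = 1)).elim Or.inl fun hv => Or.inr (hall v hv))
          _ = 2 := Set.ncard_pair ha.symm
      omega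
    have hord : ∀ c : (P : Subgroup T), c ≠ 1 → orderOf (c : T) = 2 := fun c hc => by
      obtain ⟨j, hj⟩ := P.2 c
      exact ((Nat.dvd_prime Nat.prime_two).1 (orderOf_dvd_of_pow_eq_one
        (sq_eq_one_of_no_four h4 (congrArg Subtype.val hj)))).resolve_left fun e' =>
          hc (Subtype.ext (orderOf_eq_one_iff.1 e'))
    have ho : orderOf (g ^ (orderOf g / ℓ)) = ℓ := orderOf_pow_orderOf_div (orderOf_pos g).ne' hd
    have h1 := psl_odd_four (F := F) (t := e a) (b := e b) (g := e (g ^ (orderOf g / ℓ))) (by omega)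
      (by rw [e.orderOf_eq]; exact hord a ha) (by rw [e.orderOf_eq]; exact hord b hb)
      (by rw [← map_mul, ← map_mul, commute_of_no_four h4 _ P.2 a.2 b.2])
      (fun e' => hba (Subtype.ext (e.injective e').symm))
      (by rw [e.orderOf_eq, ho]; exact hℓ.odd_of_ne_two hℓ2)
      (by rw [← map_mul, ← map_mul, ((show Commute g (a : T) from hg a a.2).pow_left _).eq])
      (by rw [← map_mul, ← map_mul, ((show Commute g (b : T) from hg b b.2).pow_left _).eq])
    rw [MulEquiv.map_eq_one_iff] at h1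
    rw [h1, orderOf_one] at ho
    exact hℓ.one_lt.ne ho
  have hN : g ∈ normalizer ((P : Subgroup T) : Set T) := by
    rw [mem_normalizer_iff]
    intro a
    constructor
    · intro ha
      rwa [hg a ha, mul_inv_cancel_right]
    · intro ha
      have h := hg _ ha
      have e' : g * a * g⁻¹ = a := by
        calc g * a * g⁻¹ = g⁻¹ * (g * (g * a * g⁻¹)) := by group
          _ = g⁻¹ * (g * a * g⁻¹ * g) := by rw [h]
          _ = a := by group
      rwa [e'] at ha
  exact (IsPGroup.inf_normalizer_sylow (IsPGroup.of_card (p := 2) (G := zpowers g) (n := k)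
    (by rw [Nat.card_zpowers, hk])) P).le ⟨mem_zpowers g, hN⟩ |>.2

include hq in
/-- an element of order 3 normalising a Sylow 2-subgroup without fixed points -/
theorem exists_three (e : T ≃* PG) (h4 : ∀ x : T, orderOf x ≠ 4) (P : Sylow 2 T) :
    ∃ w : T, orderOf w = 3 ∧ (∀ a ∈ (P : Subgroup T), w * a * w⁻¹ ∈ (P : Subgroup T)) ∧
      ∀ a ∈ (P : Subgroup T), w * a * w⁻¹ = a → a = 1 := by
  classical
  haveI : Fact (Nat.Prime 2) := ⟨Nat.prime_two⟩
  have hP4 : Nat.card (P : Subgroup T) = 4 := four_sylow hq e P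
  have hcomm : ∀ a ∈ (P : Subgroup T), ∀ b ∈ (P : Subgroup T), a * b = b * a := fun a ha b hb =>
    commute_of_no_four h4 _ P.2 ha hb
  haveI hPc : IsMulCommutative P := ⟨⟨fun a b => Subtype.ext (hcomm _ a.2 _ b.2)⟩⟩
  haveI : Nontrivial (P : Subgroup T) := Finite.one_lt_card_iff_nontrivial.1 (by omega)
  obtain ⟨a, ha⟩ := exists_ne (1 : (P : Subgroup T))
  obtain ⟨b, hb, hba⟩ : ∃ b : (P : Subgroup T), b ≠ 1 ∧ b ≠ a := by
    by_contra! hall
    have : Nat.card (P : Subgroup T) ≤ 2 := by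
      calc Nat.card (P : Subgroup T) = (Set.univ : Set (P : Subgroup T)).ncard := (Set.ncard_univ _).symm
        _ ≤ ({1, a} : Set (P : Subgroup T)).ncard := Set.ncard_le_ncard (fun v _ => (em (v = 1)).elim Or.inl fun hv => Or.inr (hall v hv))
        _ = 2 := Set.ncard_pair ha.symm
    omega
  have hord : ∀ c ∈ (P : Subgroup T), c ≠ 1 → orderOf c = 2 := fun c hc hc1 => by
    obtain ⟨j, hj⟩ := P.2 ⟨c, hc⟩
    exact ((Nat.dvd_prime Nat.prime_two).1 (orderOf_dvd_of_pow_eq_one
      (sq_eq_one_of_no_four h4 (congrArg Subtype.val hj)))).resolve_left fun e' => hc1 (orderOf_eq_one_iff.1 e')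
  obtain ⟨c, hc⟩ := isConj_iff.1 (conj_of_equiv e (a : T) b (hord a a.2 fun e' => ha (Subtype.ext e'))
    (hord b b.2 fun e' => hb (Subtype.ext e')))
  obtain ⟨n, hn, hnc⟩ := P.conj_eq_normalizer_conj_of_mem (a : T) c⁻¹ a.2 (by rw [inv_inv, hc]; exact b.2)
  rw [inv_inv, hc] at hnc
  set N := normalizer ((P : Subgroup T) : Set T) with hNdef
  obtain ⟨ℓ, hℓ, hℓ2, hℓd⟩ : ∃ ℓ : ℕ, ℓ.Prime ∧ ℓ ≠ 2 ∧ ℓ ∣ Nat.card N := by
    by_contra hnone
    push Not at hnone
    have hN2 : IsPGroup 2 N := IsPGroup.of_card (n := (Nat.card N).primeFactorsList.length)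
      (Nat.eq_prime_pow_of_unique_prime_dvd Nat.card_pos.ne' fun {ℓ} hℓ hd => not_not.1 fun h' => hnone ℓ hℓ h' hd)
    have hNP : N = (P : Subgroup T) := P.3 hN2 (le_normalizer (H := (P : Subgroup T)))
    have hnP : n ∈ (P : Subgroup T) := hNP ▸ hn
    rw [mul_assoc, hcomm _ a.2 _ hnP, inv_mul_cancel_left] at hnc
    exact hba (Subtype.ext hnc)
  haveI := Fact.mk hℓ
  obtain ⟨⟨w, hwN⟩, hw⟩ := exists_prime_orderOf_dvd_card' (G := N) ℓ hℓd
  rw [Subgroup.orderOf_mk] at hw
  have hwP : ∀ d ∈ (P : Subgroup T), w * d * w⁻¹ ∈ (P : Subgroup T) := fun d hd => (mem_normalizer_iff.1 hwN d).1 hd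
  have hfix : ∀ d ∈ (P : Subgroup T), w * d * w⁻¹ = d → d = 1 := by
    intro d hd hwd
    by_contra hd1
    obtain ⟨d', hd', hd'1, hd'd⟩ : ∃ d' ∈ (P : Subgroup T), d' ≠ 1 ∧ d' ≠ d := by
      rcases eq_or_ne (a : T) d with h | h
      · exact ⟨b, b.2, fun e' => hb (Subtype.ext e'), fun e' => hba (Subtype.ext (e'.trans h.symm))⟩
      · exact ⟨a, a.2, fun e' => ha (Subtype.ext e'), h⟩
    have hset : ∀ z ∈ (P : Subgroup T), z = 1 ∨ z = d ∨ z = d' ∨ z = d * d' := by
      intro z hz
      by_contra hz'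
      push Not at hz'
      have hd2 : d * d = 1 := by rw [← pow_two, ← hord d hd hd1, pow_orderOf_eq_one]
      have hdd1 : d * d' ≠ 1 := fun e' => hd'd (mul_left_cancel (e'.trans hd2.symm))
      have hcard : ({1, d, d', d * d', z} : Finset T).card = 5 := by
        rw [Finset.card_insert_of_notMem, Finset.card_insert_of_notMem, Finset.card_insert_of_notMem,
          Finset.card_pair hz'.2.2.2.symm]
        · simp only [Finset.mem_insert, Finset.mem_singleton, not_or]
          exact ⟨fun e' => hd1 (mul_eq_right.1 e'.symm), hz'.2.2.1.symm⟩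
        · simp only [Finset.mem_insert, Finset.mem_singleton, not_or]
          exact ⟨hd'd.symm, fun e' => hd'1 (mul_eq_left.1 e'.symm), hz'.2.1.symm⟩
        · simp only [Finset.mem_insert, Finset.mem_singleton, not_or]
          exact ⟨Ne.symm hd1, Ne.symm hd'1, Ne.symm hdd1, hz'.1.symm⟩
      have hsub : (({1, d, d', d * d', z} : Finset T) : Set T) ⊆ ((P : Subgroup T) : Set T) := by
        simp only [Finset.coe_insert, Finset.coe_singleton, Set.insert_subset_iff, Set.singleton_subset_iff,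
          SetLike.mem_coe]
        exact ⟨one_mem _, hd, hd', mul_mem hd hd', hz⟩
      have := Set.ncard_le_ncard hsub
      rw [Set.ncard_coe_finset, hcard] at this
      exact absurd this (by
        rw [show ((P : Subgroup T) : Set T).ncard = Nat.card (P : Subgroup T) from rfl, hP4]; norm_num)
    -- `w ^ 2` fixes everything
    have hw2d' : w * (w * d' * w⁻¹) * w⁻¹ = d' := by
      rcases hset _ (hwP d' hd') with h | h | h | h
      · exact absurd (mul_eq_left.1 (mul_inv_eq_one.1 h)) hd'1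
      · exact absurd (mul_left_cancel (mul_right_cancel (h.trans hwd.symm))) hd'd
      · rw [h, h]
      · rw [h, show w * (d * d') * w⁻¹ = w * d * w⁻¹ * (w * d' * w⁻¹) by group, hwd, h, ← mul_assoc,
          ← pow_two, ← hord d hd hd1, pow_orderOf_eq_one, one_mul]
    have hall : ∀ z ∈ (P : Subgroup T), (w ^ 2) * z = z * (w ^ 2) := by
      have key : ∀ z : T, w * (w * z * w⁻¹) * w⁻¹ = z → (w ^ 2) * z = z * (w ^ 2) := fun z hz => by
        rw [pow_two]
        calc w * w * z = w * (w * z * w⁻¹) * w⁻¹ * (w * w) := by group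
          _ = z * (w * w) := by rw [hz]
      intro z hz
      rcases hset z hz with rfl | rfl | rfl | rfl
      · rw [mul_one, one_mul]
      · exact key z (by rw [hwd, hwd])
      · exact key z hw2d'
      · have h1 : w ^ 2 * d = d * w ^ 2 := key d (by rw [hwd, hwd])
        exact ((show Commute (w ^ 2) d from h1).mul_right (key d' hw2d')).eq
    have hw2P := four_cent hq e h4 P hall
    have hw1 : w ^ 2 = 1 := by
      by_contra hne
      have h2 := hord _ hw2P hne
      rw [orderOf_pow, hw] at h2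
      have hgcd : Nat.gcd ℓ 2 = 1 := (Nat.coprime_primes hℓ Nat.prime_two).2 hℓ2
      rw [hgcd, Nat.div_one] at h2
      exact hℓ2 h2
    exact hℓ2 ((Nat.prime_dvd_prime_iff_eq hℓ Nat.prime_two).1 (hw ▸ orderOf_dvd_of_pow_eq_one hw1))
  refine ⟨w, ?_, hwP, hfix⟩
  -- a fixed-point-free action on four points
  letI : MulAction (zpowers w) (P : Subgroup T) :=
    { smul := fun g d => ⟨(g : T) * d * (g : T)⁻¹, (mem_normalizer_iff.1 (zpowers_le.2 hwN g.2) _).1 d.2⟩
      one_smul := fun d => Subtype.ext (show (1 : T) * d * (1 : T)⁻¹ = d by group)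
      mul_smul := fun g h d => Subtype.ext (show ((g : T) * h) * d * ((g : T) * h)⁻¹ = g * (h * d * (h : T)⁻¹) * (g : T)⁻¹ by group) }
  have hmod := (IsPGroup.of_card (p := ℓ) (G := zpowers w) (n := 1) (by rw [Nat.card_zpowers, hw, pow_one])).card_modEq_card_fixedPoints
    (P : Subgroup T)
  have hfp : MulAction.fixedPoints (zpowers w) (P : Subgroup T) = {1} := by
    ext d
    rw [Set.mem_singleton_iff, MulAction.mem_fixedPoints]
    constructor
    · exact fun hd => Subtype.ext (hfix d d.2 (congrArg Subtype.val (hd ⟨w, mem_zpowers w⟩)))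
    · rintro rfl g
      exact Subtype.ext (show (g : T) * 1 * (g : T)⁻¹ = 1 by group)
  rw [hfp, hP4, Nat.card_coe_set_eq, Set.ncard_singleton] at hmod
  have h3 : ℓ ∣ 3 := (Nat.modEq_iff_dvd' (by norm_num : 1 ≤ 4)).1 hmod.symm
  rw [hw]
  exact (Nat.prime_dvd_prime_iff_eq hℓ Nat.prime_three).1 h3

end Facts

section NoOuter

variable {H : Type u} [Group H] [Finite H] {T : Subgroup H} [T.Normal] [IsSimpleGroup T] {F : Type*} [Field F]
  [Fintype F]

theorem odd_no_outer (h : P3 H) (h4 : ∀ x : H, orderOf x ≠ 4)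
    (hq : Fintype.card F % 8 = 3 ∨ Fintype.card F % 8 = 5) (hq5 : 5 < Fintype.card F)
    (e : T ≃* Matrix.ProjectiveSpecialLinearGroup (Fin 2) F) : T = ⊤ := by
  classical
  haveI : Fact (Nat.Prime 2) := ⟨Nat.prime_two⟩
  set q := Fintype.card F with hqdef
  have hT4 : ∀ x : T, orderOf x ≠ 4 := fun x => by rw [← Subgroup.orderOf_coe]; exact h4 _
  let P : Sylow 2 T := default
  have hP4 : Nat.card (P : Subgroup T) = 4 := four_sylow hq e P
  obtain ⟨w, hw, hwP, hwfix⟩ := exists_three hq e hT4 P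
  obtain ⟨s, hs, hsq, hse⟩ : ∃ s : ℕ, s.Prime ∧ (4 * s = q + 1 ∨ 4 * s + 1 = q) ∧ ∃ x : H, orderOf x = 2 * s := by
    obtain ⟨⟨xq, hxq⟩, ⟨yq, hyq⟩⟩ := CITSolv.exists_torus (F := F) (by omega)
    rw [show Nat.gcd 2 (Fintype.card F - 1) = 2 from Nat.gcd_eq_left (by omega), ← e.symm.orderOf_eq,
      ← Subgroup.orderOf_coe, ← hqdef] at hxq hyq
    obtain ⟨k, hk, x, hx⟩ : ∃ k : ℕ, (4 * k = q + 1 ∨ 4 * k + 1 = q) ∧ ∃ x : H, orderOf x = 2 * k := by
      rcases hq with hq' | hq'
      · exact ⟨(q + 1) / 4, Or.inl (by omega), _, hyq.trans (by omega)⟩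
      · exact ⟨(q - 1) / 4, Or.inr (by omega), _, hxq.trans (by omega)⟩
    obtain ⟨ℓ, hℓ, hℓd⟩ := Nat.exists_prime_and_dvd (show k ≠ 1 by omega)
    have ho : orderOf (x ^ (orderOf x / (2 * ℓ))) = 2 * ℓ :=
      orderOf_pow_orderOf_div (orderOf_pos x).ne' (hx ▸ Nat.mul_dvd_mul_left 2 hℓd)
    have := h.eq_of_dvd Nat.prime_two (x := x) (y := x ^ (orderOf x / (2 * ℓ))) (hx ▸ dvd_mul_right 2 k)
      (by rw [ho]; exact dvd_mul_right 2 ℓ) (by omega) (by have := hℓ.two_le; omega)
    have hkl : k = ℓ := by omega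
    exact ⟨k, hkl ▸ hℓ, hk, x, hx⟩
  obtain ⟨xs, hxs⟩ := hse
  have heven : ∀ x : H, 2 ∣ orderOf x → orderOf x ≠ 2 → orderOf x = 2 * s := fun x hx hx2 =>
    (h.eq_of_dvd Nat.prime_two (x := x) (y := xs) hx (hxs ▸ dvd_mul_right 2 s) hx2
      (by have := hs.two_le; omega)).trans hxs
  by_contra hne
  set Ph : Subgroup H := (P : Subgroup T).map T.subtype with hPh
  have hPh2 : IsPGroup 2 Ph := P.2.map _
  set M : Subgroup H := centralizer (Ph : Set H) with hM
  have hMc : ∀ y, y ∈ M ↔ ∀ a ∈ (P : Subgroup T), (a : H) * y = y * a := by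
    intro y
    rw [hM, mem_centralizer_iff]
    exact ⟨fun hy a ha => hy _ (mem_map_of_mem T.subtype ha), fun hy z hz => by
      obtain ⟨a, ha, rfl⟩ := hz; exact hy a ha⟩
  have hord : ∀ c ∈ (P : Subgroup T), c ≠ 1 → orderOf c = 2 := fun c hc hc1 => by
    obtain ⟨j, hj⟩ := P.2 ⟨c, hc⟩
    exact ((Nat.dvd_prime Nat.prime_two).1 (orderOf_dvd_of_pow_eq_one
      (sq_eq_one_of_no_four hT4 (congrArg Subtype.val hj)))).resolve_left fun e' => hc1 (orderOf_eq_one_iff.1 e')
  haveI : Nontrivial (P : Subgroup T) := Finite.one_lt_card_iff_nontrivial.1 (by omega)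
  obtain ⟨⟨t, htP⟩, ht⟩ := exists_ne (1 : (P : Subgroup T))
  have ht1 : t ≠ 1 := fun e' => ht (Subtype.ext e')
  set t1 : T := w * t * w⁻¹ with ht1def
  set t2 : T := w * t1 * w⁻¹ with ht2def
  have ht1P : t1 ∈ (P : Subgroup T) := hwP t htP
  have ht2P : t2 ∈ (P : Subgroup T) := hwP t1 ht1P
  have hw3 : w * w * w = 1 := by
    have h' := pow_orderOf_eq_one w
    rwa [hw, pow_succ, pow_two] at h'
  have hne01 : t1 ≠ t := fun e' => ht1 (hwfix t htP e')
  have hne12 : t2 ≠ t1 := fun e' => hne01 (mul_left_cancel (mul_right_cancel e'))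
  have hne02 : t2 ≠ t := by
    intro e'
    refine hne01 ?_
    calc t1 = w * t2 * w⁻¹ := by rw [e']
      _ = (w * w * w) * t * (w * w * w)⁻¹ := by rw [ht2def, ht1def]; group
      _ = t := by rw [hw3]; group
  have hthree : ∀ z ∈ (P : Subgroup T), z ≠ 1 → z = t ∨ z = t1 ∨ z = t2 := by
    intro z hz hz1
    by_contra hz'
    push Not at hz'
    have h11 : t1 ≠ 1 := fun e' => ht1 (conj_eq_one_iff.1 e')
    have h21 : t2 ≠ 1 := fun e' => h11 (conj_eq_one_iff.1 e')
    have hcard : ({1, t, t1, t2, z} : Finset T).card = 5 := by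
      rw [Finset.card_insert_of_notMem, Finset.card_insert_of_notMem, Finset.card_insert_of_notMem,
        Finset.card_pair hz'.2.2.symm]
      · simp only [Finset.mem_insert, Finset.mem_singleton, not_or]
        exact ⟨hne12.symm, hz'.2.1.symm⟩
      · simp only [Finset.mem_insert, Finset.mem_singleton, not_or]
        exact ⟨hne01.symm, hne02.symm, hz'.1.symm⟩
      · simp only [Finset.mem_insert, Finset.mem_singleton, not_or]
        exact ⟨Ne.symm ht1, Ne.symm h11, Ne.symm h21, Ne.symm hz1⟩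
    have hsub : (({1, t, t1, t2, z} : Finset T) : Set T) ⊆ ((P : Subgroup T) : Set T) := by
      simp only [Finset.coe_insert, Finset.coe_singleton, Set.insert_subset_iff, Set.singleton_subset_iff,
        SetLike.mem_coe]
      exact ⟨one_mem _, htP, ht1P, ht2P, hz⟩
    have := Set.ncard_le_ncard hsub
    rw [Set.ncard_coe_finset, hcard] at this
    exact absurd this (by
      rw [show ((P : Subgroup T) : Set T).ncard = Nat.card (P : Subgroup T) from rfl, hP4]; norm_num)
  have hwN : (w : H) ∈ normalizer (Ph : Set H) := by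
    rw [mem_normalizer_iff]
    intro z
    constructor
    · rintro ⟨a, ha, rfl⟩
      exact ⟨_, hwP a ha, rfl⟩
    · rintro ⟨a, ha, ha'⟩
      refine ⟨w * (w * a * w⁻¹) * w⁻¹, hwP _ (hwP a ha), ?_⟩
      have hw3' : (w : H) * w * w = 1 := congrArg Subtype.val hw3
      calc T.subtype (w * (w * a * w⁻¹) * w⁻¹) = (w : H) * (w * T.subtype a * (w : H)⁻¹) * (w : H)⁻¹ := rfl
        _ = ((w : H) * w * w) * z * ((w : H) * w * w)⁻¹ := by rw [ha']; group
        _ = z := by rw [hw3']; group
  -- the normaliser of the four-group is generated by its centraliser and w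
  have hMT : M ⊔ T = ⊤ := by
    have hN : normalizer (Ph : Set H) ⊔ T = ⊤ := Sylow.normalizer_sup_eq_top P
    rw [eq_top_iff, ← hN, sup_le_iff]
    refine ⟨fun g hg => ?_, le_sup_right⟩
    have hfixt : ∀ g : H, g ∈ normalizer (Ph : Set H) → g * (t : H) * g⁻¹ = t → g ∈ M := by
      intro g hg hgt
      have hgP : ∀ a ∈ (P : Subgroup T), ∃ b ∈ (P : Subgroup T), (b : H) = g * a * g⁻¹ := fun a ha => by
        obtain ⟨b, hb, e'⟩ := (mem_normalizer_iff.1 hg _).1 (mem_map_of_mem T.subtype ha)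
        exact ⟨b, hb, e'⟩
      have hinj : ∀ a c : T, g * (a : H) * g⁻¹ = g * c * g⁻¹ → a = c := fun a c e' =>
        Subtype.ext (mul_left_cancel (mul_right_cancel e'))
      have h11 : t1 ≠ 1 := fun e' => ht1 (conj_eq_one_iff.1 e')
      have h21 : t2 ≠ 1 := fun e' => h11 (conj_eq_one_iff.1 e')
      have htwo : ∀ a ∈ (P : Subgroup T), g * (g * (a : H) * g⁻¹) * g⁻¹ = a := by
        intro a ha
        rcases eq_or_ne a 1 with rfl | ha1
        · simp
        have hstep : ∀ c ∈ (P : Subgroup T), c ≠ 1 → c ≠ t →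
            ∃ d ∈ (P : Subgroup T), d ≠ t ∧ (d = t1 ∨ d = t2) ∧ (d : H) = g * c * g⁻¹ := by
          intro c hc hc1 hct
          obtain ⟨d, hd, hde⟩ := hgP c hc
          have hdt : d ≠ t := fun e' => hct (hinj c t (by rw [← hde, e', hgt]))
          have hd1 : d ≠ 1 := fun e' => hc1 (hinj c 1 (by rw [← hde, e']; simp))
          rcases hthree d hd hd1 with h' | h' | h'
          · exact absurd h' hdt
          · exact ⟨d, hd, hdt, Or.inl h', hde⟩
          · exact ⟨d, hd, hdt, Or.inr h', hde⟩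
        obtain ⟨d1, hd1P, -, hd1, hd1e⟩ := hstep t1 ht1P h11 hne01
        obtain ⟨d2, hd2P, -, hd2, hd2e⟩ := hstep t2 ht2P h21 hne02
        have hd12 : d1 ≠ d2 := fun e' => hne12 (hinj t2 t1 (by rw [← hd1e, ← hd2e, e']))
        rcases hthree a ha ha1 with rfl | rfl | rfl
        · rw [hgt, hgt]
        · rcases hd1 with h' | h'
          · rw [← hd1e, h', ← hd1e, h']
          · rw [← hd1e, h', ← hd2e]
            rcases hd2 with h'' | h''
            · rw [h'']
            · exact absurd (h'.trans h''.symm) hd12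
        · rcases hd2 with h' | h'
          · rw [← hd2e, h', ← hd1e]
            rcases hd1 with h'' | h''
            · exact absurd (h''.trans h'.symm) hd12
            · rw [h'']
          · rw [← hd2e, h', ← hd2e, h']
      have hg2 : ∀ a ∈ (P : Subgroup T), Commute (g ^ 2) (a : H) := fun a ha => by
        show g ^ 2 * (a : H) = a * g ^ 2
        rw [pow_two]
        calc g * g * (a : H) = g * (g * a * g⁻¹) * g⁻¹ * (g * g) := by group
          _ = a * (g * g) := by rw [htwo a ha]
      obtain ⟨i, m, hm, hgo⟩ := Nat.exists_eq_two_pow_mul_odd (orderOf_pos g).ne'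
      obtain ⟨j, rfl⟩ := hm
      rw [hMc]
      intro a ha
      have h2g : IsPGroup 2 (zpowers (g ^ (2 * j + 1))) := by
        refine IsPGroup.of_card (n := i) ?_
        rw [Nat.card_zpowers, orderOf_pow, hgo, Nat.gcd_eq_right (dvd_mul_left _ _),
          Nat.mul_div_cancel _ (by omega)]
      have hc := commute_of_no_four h4 _ (IsPGroup.to_sup_of_normal_right' h2g hPh2
        (zpowers_le.2 (pow_mem hg _))) (mem_sup_left (mem_zpowers (g ^ (2 * j + 1))))
        (mem_sup_right (mem_map_of_mem T.subtype ha))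
      have hpow : g = g ^ (2 * j + 1) * ((g ^ 2) ^ j)⁻¹ := by
        rw [← pow_mul, pow_succ', mul_inv_cancel_right]
      rw [hpow]
      exact ((show Commute (g ^ (2 * j + 1)) (a : H) from hc).mul_left ((hg2 a ha).pow_left j).inv_left).eq.symm
    obtain ⟨c, hc, hce⟩ := (mem_normalizer_iff.1 hg _).1 (mem_map_of_mem T.subtype htP)
    have hc1 : c ≠ 1 := fun e' => by
      rw [e', map_one, eq_comm, conj_eq_one_iff] at hce
      exact ht1 (Subtype.ext hce)
    obtain ⟨v, hvN, hvT, hv⟩ : ∃ v : H, v ∈ normalizer (Ph : Set H) ∧ v ∈ T ∧ v * (c : H) * v⁻¹ = t := by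
      rcases hthree c (by exact hc) hc1 with rfl | rfl | rfl
      · exact ⟨1, one_mem _, one_mem _, by simp⟩
      · refine ⟨(w : H) * w, mul_mem hwN hwN, T.mul_mem w.2 w.2, ?_⟩
        have hw3' : (w : H) * w * w = 1 := congrArg Subtype.val hw3
        calc (w : H) * w * ((w : H) * t * (w : H)⁻¹) * ((w : H) * w)⁻¹
            = ((w : H) * w * w) * t * ((w : H) * w * w)⁻¹ := by group
          _ = t := by rw [hw3']; group
      · refine ⟨(w : H), hwN, w.2, ?_⟩
        have hw3' : (w : H) * w * w = 1 := congrArg Subtype.val hw3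
        calc (w : H) * ((w : H) * ((w : H) * t * (w : H)⁻¹) * (w : H)⁻¹) * (w : H)⁻¹
            = ((w : H) * w * w) * t * ((w : H) * w * w)⁻¹ := by group
          _ = t := by rw [hw3']; group
    have hvg := hfixt (v * g) (mul_mem hvN hg) (by
      calc v * g * (t : H) * (v * g)⁻¹ = v * (g * (t : H) * g⁻¹) * v⁻¹ := by group
        _ = t := by rw [← show (c : H) = g * (t : H) * g⁻¹ from hce, hv])
    rw [show g = v⁻¹ * (v * g) by group]
    exact Subgroup.mul_mem _ (mem_sup_right (T.inv_mem hvT)) (mem_sup_left hvg)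
  have hMTP : ∀ g ∈ M, g ∈ T → ∃ a ∈ (P : Subgroup T), (a : H) = g := fun g hg hgT =>
    ⟨⟨g, hgT⟩, four_cent hq e hT4 P fun a ha => Subtype.ext ((hMc g).1 hg a ha).symm, rfl⟩
  have ht' : orderOf (t : H) = 2 := by rw [Subgroup.orderOf_coe]; exact hord t htP ht1
  -- every prime of the index is 2 or 3, and then s = 3
  have hprime : ∀ r : ℕ, r.Prime → r ∣ T.index → (r = 2 ∨ r = 3) ∧ s = 3 := by
    intro r hr hrd
    haveI := Fact.mk hr
    obtain ⟨y, hyM, hyT, k, hk⟩ := exists_outer T M hMT hr hrd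
    obtain ⟨z, hzw, hzt, hz⟩ : ∃ z : H, Commute z (w : H) ∧ Commute z (t : H) ∧ (if r = 2 then orderOf z = 2 else orderOf z = r) := by
      have hyt : Commute y (t : H) := ((hMc y).1 hyM t htP).symm
      have hyr : r ≠ 2 → k = 0 ∧ s = r := by
        intro hr2
        have hc2 : orderOf (y * t) = r ^ (k + 1) * 2 := by
          rw [hyt.orderOf_mul_eq_mul_orderOf_of_coprime (by
            rw [hk, ht']; exact Nat.Coprime.pow_left _ ((Nat.coprime_primes hr Nat.prime_two).2 hr2)), hk, ht']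
        have hpos : 2 ≤ r ^ (k + 1) := le_trans hr.two_le (Nat.le_self_pow (Nat.succ_ne_zero k) r)
        have he := heven _ (hc2 ▸ dvd_mul_left 2 _) (by omega)
        rw [hc2] at he
        have hsk : r ^ (k + 1) = s := by omega
        have hk0 : k = 0 := by
          by_contra hk0
          exact (Nat.Prime.not_prime_pow (x := r) (n := k + 1) (by omega)) (hsk ▸ hs)
        subst hk0
        exact ⟨rfl, by rw [← hsk, zero_add, pow_one]⟩
      have hcoset : ∀ g : H, g ∈ T → g ∈ M → ∀ a ∈ (P : Subgroup T), (a : H) * g = g * a := fun g _ hg => (hMc g).1 hg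
      letI : MulAction (zpowers (w : H)) {m : H // m ∈ M ∧ y⁻¹ * m ∈ T} :=
        { smul := fun g m => ⟨(g : H) * m.1 * (g : H)⁻¹, by
            have hgN : (g : H) ∈ normalizer (Ph : Set H) := zpowers_le.2 hwN g.2
            constructor
            · have hCn : (g : H) ∈ normalizer (M : Set H) := by
                rw [mem_normalizer_iff]
                intro z
                rw [hM, mem_centralizer_iff, mem_centralizer_iff]
                constructor
                · intro hz a ha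
                  have := hz _ ((mem_normalizer_iff''.1 hgN a).1 ha)
                  calc a * ((g : H) * z * (g : H)⁻¹) = g * (((g : H)⁻¹ * a * g) * z) * (g : H)⁻¹ := by group
                    _ = _ := by rw [this]; group
                · intro hz a ha
                  have := hz _ ((mem_normalizer_iff.1 hgN a).1 ha)
                  calc a * z = (g : H)⁻¹ * ((g * a * (g : H)⁻¹) * ((g : H) * z * (g : H)⁻¹)) * g := by group
                    _ = _ := by rw [this]; group
              exact (mem_normalizer_iff.1 hCn _).1 m.2.1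
            · have hgT : (g : H) ∈ T := zpowers_le.2 w.2 g.2
              rw [show y⁻¹ * ((g : H) * m.1 * (g : H)⁻¹) = (y⁻¹ * g * y) * (y⁻¹ * m.1) * (g : H)⁻¹ by group]
              refine T.mul_mem (T.mul_mem ?_ m.2.2) (T.inv_mem hgT)
              simpa using Subgroup.Normal.conj_mem (inferInstance : T.Normal) _ hgT y⁻¹⟩
          one_smul := fun m => Subtype.ext (show (1 : H) * m.1 * (1 : H)⁻¹ = m.1 by group)
          mul_smul := fun a b m => Subtype.ext
            (show ((a : H) * b) * m.1 * ((a : H) * b)⁻¹ = a * (b * m.1 * (b : H)⁻¹) * (a : H)⁻¹ by group) }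
      have hcardX : Nat.card {m : H // m ∈ M ∧ y⁻¹ * m ∈ T} = 4 := by
        rw [← hP4]
        refine (Nat.card_congr (Equiv.ofBijective
          (fun a : (P : Subgroup T) => (⟨y * ((a : T) : H), M.mul_mem hyM ((hMc _).2 fun b hb => congrArg Subtype.val
            (commute_of_no_four hT4 _ P.2 hb a.2)), by rw [inv_mul_cancel_left]; exact (a : T).2⟩ :
            {m : H // m ∈ M ∧ y⁻¹ * m ∈ T})) ⟨fun a b e' => ?_, fun m => ?_⟩)).symm
        · exact Subtype.ext (Subtype.ext (mul_left_cancel (congrArg Subtype.val e')))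
        · obtain ⟨a, ha, hae⟩ := hMTP _ (M.mul_mem (M.inv_mem hyM) m.2.1) m.2.2
          exact ⟨⟨a, ha⟩, Subtype.ext (show y * (a : H) = m.1 by rw [hae, mul_inv_cancel_left])⟩
      have hw3o : orderOf (w : H) = 3 := by rw [Subgroup.orderOf_coe, hw]
      haveI := Fact.mk Nat.prime_three
      have hmod := (IsPGroup.of_card (p := 3) (G := zpowers (w : H)) (n := 1)
        (by rw [Nat.card_zpowers, hw3o, pow_one])).card_modEq_card_fixedPoints {m : H // m ∈ M ∧ y⁻¹ * m ∈ T}
      rw [hcardX] at hmod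
      obtain ⟨⟨m, hmM, hmT⟩, hmfix⟩ : (MulAction.fixedPoints (zpowers (w : H)) {m : H // m ∈ M ∧ y⁻¹ * m ∈ T}).Nonempty := by
        rw [Set.nonempty_iff_ne_empty]
        intro he
        rw [he, Nat.card_coe_set_eq, Set.ncard_empty] at hmod
        norm_num [Nat.ModEq] at hmod
      have hmw : Commute m (w : H) := (mul_inv_eq_iff_eq_mul.1
        (congrArg Subtype.val (hmfix ⟨(w : H), mem_zpowers _⟩))).symm
      obtain ⟨a, ha, hae⟩ := hMTP _ (M.mul_mem (M.inv_mem hyM) hmM) hmT
      have hmeq : m = y * a := by rw [hae, mul_inv_cancel_left]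
      have hya : Commute y (a : H) := ((hMc y).1 hyM a ha).symm
      have ha2 : (a : H) ^ 2 = 1 := by
        rcases eq_or_ne a 1 with rfl | ha1
        · simp
        · rw [← Subgroup.coe_pow, ← hord a ha ha1, pow_orderOf_eq_one, Subgroup.coe_one]
      have hmt : Commute m (t : H) := ((hMc m).1 hmM t htP).symm
      by_cases hr2 : r = 2
      · refine ⟨m, hmw, hmt, ?_⟩
        rw [if_pos hr2]
        subst hr2
        have hy2 : y ^ 2 = 1 := sq_eq_one_of_no_four h4 (k := k + 1) (by rw [← hk, pow_orderOf_eq_one])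
        refine orderOf_eq_prime (by rw [hmeq, hya.mul_pow, hy2, ha2, one_mul]) fun e' => hyT ?_
        rw [hmeq] at e'
        rw [eq_inv_of_mul_eq_one_left e']
        exact T.inv_mem a.2
      · obtain ⟨hk0, -⟩ := hyr hr2
        subst hk0
        rw [zero_add, pow_one] at hk
        refine ⟨m ^ 2, hmw.pow_left 2, hmt.pow_left 2, ?_⟩
        rw [if_neg hr2, hmeq, hya.mul_pow, ha2, mul_one, orderOf_pow, hk,
          show Nat.gcd r 2 = 1 from (Nat.coprime_primes hr Nat.prime_two).2 hr2, Nat.div_one]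
    have hw3o : orderOf (w : H) = 3 := by rw [Subgroup.orderOf_coe, hw]
    by_cases hr2 : r = 2
    · rw [if_pos hr2] at hz
      have h6 := orderOf_mul_primes Nat.prime_two Nat.prime_three (by norm_num) hz hw3o hzw
      have := heven _ (h6 ▸ dvd_mul_right 2 3) (by omega)
      exact ⟨Or.inl hr2, by omega⟩
    · rw [if_neg hr2] at hz
      have h2r := orderOf_mul_primes hr Nat.prime_two hr2 hz ht' hzt
      have hsr : s = r := by
        have := heven _ (h2r ▸ dvd_mul_left 2 r) (by have := hr.two_le; omega)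
        omega
      rcases eq_or_ne r 3 with rfl | hr3
      · exact ⟨Or.inr rfl, hsr⟩
      · exact (h.not_two_partners hr Nat.prime_two Nat.prime_three hr2 hr3 (by norm_num) ⟨_, h2r⟩
          ⟨_, orderOf_mul_primes hr Nat.prime_three hr3 hz hw3o hzw⟩).elim
  obtain ⟨r0, hr0, hr0d⟩ := Nat.exists_prime_and_dvd (fun e' => hne (index_eq_one.1 e'))
  have hs3 : s = 3 := (hprime r0 hr0 hr0d).2
  subst hs3
  obtain ⟨p, k, m, hp, hcardT, hk, hk1, huniq, hp1, hpq, hm6⟩ : ∃ p k m : ℕ, p.Prime ∧ Nat.card T = p * k ∧ ¬ p ∣ k ∧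
      k ≠ 1 ∧ (∀ d ∈ Finset.range (k + 1), d ∣ k → d % p = 1 → d ≠ 1 → k / d = m) ∧ p - 1 = 2 * m ∧ p = q ∧ 5 ≤ m := by
    have hcard := CITSolv.card_psl_two (F := F) (q := q) rfl
    rw [← Nat.card_congr e.toEquiv] at hcard
    rcases (by omega : q = 11 ∨ q = 13) with h' | h'
    · refine ⟨11, 60, 5, by norm_num, ?_, by norm_num, by norm_num, by decide, rfl, h'.symm, le_rfl⟩
      rw [h'] at hcard; norm_num at hcard ⊢; omega
    · refine ⟨13, 84, 6, by norm_num, ?_, by norm_num, by norm_num, by decide, rfl, h'.symm, by norm_num⟩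
      rw [h'] at hcard; norm_num at hcard ⊢; omega
  haveI := Fact.mk hp
  let Pp : Sylow p T := default
  obtain ⟨hPp, hNp⟩ := normalizer_of_simple hcardT hk hk1 huniq Pp
  have hidx : ∀ ℓ : ℕ, ℓ.Prime → ℓ ∣ T.index → ℓ = 2 ∨ ℓ = 3 := fun ℓ hℓ hd => (hprime ℓ hℓ hd).1
  have hpH : ¬ p * p ∣ Nat.card H := by
    rw [← T.card_mul_index, hcardT, mul_assoc, Nat.mul_dvd_mul_iff_left hp.pos, hp.dvd_mul]
    rintro (h' | h')
    · exact hk h'
    · rcases hidx p hp h' with h'' | h'' <;> omega
  have hno : ∀ ℓ : ℕ, ℓ.Prime → ℓ ≠ p → ∀ g : H, orderOf g ≠ p * ℓ := by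
    intro ℓ hℓ hℓp g hg
    rcases eq_or_ne ℓ 2 with rfl | hℓ2
    · have := heven g (hg ▸ dvd_mul_left 2 p) (by have := hp.two_le; omega)
      omega
    rcases eq_or_ne ℓ 3 with rfl | hℓ3
    · exact h.not_two_partners Nat.prime_three Nat.prime_two hp (by norm_num) (by omega) (by omega)
        ⟨xs, hxs.trans (by norm_num)⟩ ⟨g, hg.trans (mul_comm p 3)⟩
    have hco : (orderOf g).Coprime T.index := by
      rw [Nat.coprime_iff_gcd_eq_one]
      by_contra hne'
      obtain ⟨d, hd, hdd⟩ := Nat.exists_prime_and_dvd hne'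
      have h1 := hdd.trans (Nat.gcd_dvd_left _ _)
      have h2 := hidx d hd (hdd.trans (Nat.gcd_dvd_right _ _))
      rw [hg] at h1
      rcases hd.dvd_mul.1 h1 with h' | h'
      · have := (Nat.prime_dvd_prime_iff_eq hd hp).1 h'; omega
      · have := (Nat.prime_dvd_prime_iff_eq hd hℓ).1 h'; omega
    have hgT : g ∈ T := by
      rw [← QuotientGroup.eq_one_iff, ← orderOf_eq_one_iff]
      exact Nat.eq_one_of_dvd_coprimes hco (orderOf_map_dvd (QuotientGroup.mk' T) g)
        (by rw [Subgroup.index_eq_card]; exact orderOf_dvd_natCard _)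
    obtain ⟨cp, hcp⟩ := CharP.exists F
    obtain ⟨j, hcpp, hj⟩ := FiniteField.card F cp
    haveI := Fact.mk hcpp
    have hcq : cp = q := by
      have hqp : (cp ^ (j : ℕ)).Prime := by rw [← hj, ← hqdef, ← hpq]; exact hp
      have := Nat.Prime.eq_one_of_pow hqp
      rw [hqdef, hj, this, pow_one]
    obtain ⟨g', hg'⟩ := SL2Class.proj_surjective (e ⟨g, hgT⟩)
    have hd := SL2Class.orderOf_proj_dvd g' cp
    rw [hg', e.orderOf_eq, Subgroup.orderOf_mk, hg, show Nat.gcd 2 (Fintype.card F - 1) = 2 from Nat.gcd_eq_left (by omega),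
      hcq, ← hqdef, ← hpq] at hd
    have hℓpos := hℓ.two_le
    rcases hd with hd | hd | hd
    · have := Nat.le_of_dvd hp.pos hd
      have : p * 2 ≤ p * ℓ := Nat.mul_le_mul_left p hℓpos
      have := hp.pos
      omega
    · have := Nat.le_of_dvd (by omega) hd
      have : p * 2 ≤ p * ℓ := Nat.mul_le_mul_left p hℓpos
      omega
    · have := Nat.le_of_dvd (by omega) hd
      have : p * 2 ≤ p * ℓ := Nat.mul_le_mul_left p hℓpos
      omega
  obtain ⟨hdiv, g, hg⟩ := aut_full Pp hPp hpH hno hNp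
  have hi1 : T.index ≠ 1 := fun e' => hne (index_eq_one.1 e')
  rw [hp1] at hdiv
  have hi2 : T.index = 2 := by
    have := Nat.le_of_dvd two_pos (Nat.dvd_of_mul_dvd_mul_right (by omega) hdiv)
    have : T.index ≠ 0 := index_ne_zero_of_finite
    omega
  rw [hi2] at hg
  have := Nat.le_of_dvd (orderOf_pos g) hg
  have := heven g ((dvd_mul_right 2 m).trans hg) (by omega)
  omega

end NoOuter

end Cfsg.Agent.ThreeOrders
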