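import Cfsg.Agent.ThreeOrders.Even
import Cfsg.Agent.ThreeOrders.Odd
import Cfsg.Agent.ThreeOrders.Four
import Cfsg.Agent.PrimeGraphCIT.Arith
import Cfsg.Agent.S0252
import Cfsg.Agent.S0253
import Cfsg.Agent.S0254

/-!
The simple groups of the theorem, and the absence of outer elements over them.
-/

set_option autoImplicit false
set_option linter.style.haveILetI false
set_option linter.unusedSectionVars false

open Subgroup

namespace Cfsg.Agent.ThreeOrders

universe u

/-- the simple groups in which no prime divides three element orders -/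
def ThreeList (T : Type u) [Group T] : Prop :=
  (∃ (F : Type) (_ : Field F) (_ : Fintype F), CharP F 2 ∧ 4 ≤ Fintype.card F ∧
      Nonempty (T ≃* Matrix.ProjectiveSpecialLinearGroup (Fin 2) F)) ∨
  (∃ (F : Type) (_ : Field F) (_ : Fintype F), 5 < Fintype.card F ∧
      (Fintype.card F % 8 = 3 ∨ Fintype.card F % 8 = 5) ∧
      Nonempty (T ≃* Matrix.ProjectiveSpecialLinearGroup (Fin 2) F)) ∨
  (∃ (F : Type) (_ : Field F) (_ : Fintype F), (Fintype.card F = 7 ∨ Fintype.card F = 9) ∧
      Nonempty (T ≃* Matrix.ProjectiveSpecialLinearGroup (Fin 2) F)) ∨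
  (∃ (F : Type) (_ : Field F) (_ : Fintype F), Fintype.card F = 4 ∧
      Nonempty (T ≃* Matrix.ProjectiveSpecialLinearGroup (Fin 3) F)) ∨
  Cfsg.Lie.IsoSuzuki T

variable {T : Type u} [Group T] [Finite T]

/-- the groups of the list outside the first two families have an element of order 4 -/
theorem exists_four_psl {F : Type} [Field F] [Fintype F] (hF : Fintype.card F = 7 ∨ Fintype.card F = 9)
    (e : T ≃* Matrix.ProjectiveSpecialLinearGroup (Fin 2) F) : ∃ x : T, orderOf x = 4 := by
  obtain ⟨⟨xq, hxq⟩, ⟨yq, hyq⟩⟩ := CITSolv.exists_torus (F := F) (by omega)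
  rw [← e.symm.orderOf_eq] at hxq hyq
  rcases hF with h | h <;> rw [h] at hxq hyq
  · exact ⟨_, hyq⟩
  · exact ⟨_, hxq⟩

theorem threeList_of_citList [IsSimpleGroup T] (hna : ∃ a b : T, a * b ≠ b * a) (h : P3 T)
    (hL : PrimeGraphCIT.CITList T) : ThreeList T := by
  rcases hL with ⟨F, iF, iFF, hcases, ⟨e⟩⟩ | h34 | hsz
  · have hq4 : 4 ≤ Fintype.card F := by
      by_contra hlt
      have := Fintype.one_lt_card (α := F)
      have hcard := CITSolv.card_psl_two (F := F) (q := Fintype.card F) rfl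
      rw [← Nat.card_congr e.toEquiv] at hcard
      obtain ⟨a, b, hab⟩ := hna
      refine hab (IsSimpleGroup.comm_iff_isSolvable.2 ?_ a b)
      rcases (by omega : Fintype.card F = 2 ∨ Fintype.card F = 3) with h2 | h2 <;> rw [h2] at hcard <;>
        norm_num at hcard
      · exact Cfsg.Agent.S0144.result 2 3 1 1 Nat.prime_two Nat.prime_three (by omega)
      · exact Cfsg.Agent.S0144.result 2 3 2 1 Nat.prime_two Nat.prime_three (by omega)
    rcases hcases with h9 | ⟨n, hn⟩ | ⟨hp, k, hk⟩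
    · exact Or.inr (Or.inr (Or.inl ⟨F, iF, iFF, Or.inr h9, ⟨e⟩⟩))
    · exact Or.inl ⟨F, iF, iFF, charP_of_card_eq_prime_pow (hp := ⟨Nat.prime_two⟩) hn, hq4, ⟨e⟩⟩
    · by_cases h5 : Fintype.card F = 5
      · haveI : Fintype (GaloisField 2 2) := Fintype.ofFinite _
        have hK : Fintype.card (GaloisField 2 2) = 4 := by
          rw [← Nat.card_eq_fintype_card, GaloisField.card 2 2 (by norm_num)]; norm_num
        obtain ⟨f⟩ := Cfsg.Agent.S0253.result h5
        obtain ⟨g⟩ := Cfsg.Agent.S0252.result hK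
        exact Or.inl ⟨GaloisField 2 2, inferInstance, inferInstance, inferInstance, le_of_eq hK.symm,
          ⟨(e.trans f).trans g.symm⟩⟩
      by_cases h7 : Fintype.card F = 7
      · exact Or.inr (Or.inr (Or.inl ⟨F, iF, iFF, Or.inl h7, ⟨e⟩⟩))
      exfalso
      obtain ⟨⟨xq, hxq⟩, ⟨yq, hyq⟩⟩ := CITSolv.exists_torus (F := F) hq4
      have hodd : Fintype.card F % 2 = 1 := Nat.odd_iff.1 (hp.odd_of_ne_two (by omega))
      rw [show Nat.gcd 2 (Fintype.card F - 1) = 2 from Nat.gcd_eq_left (by omega), ← e.symm.orderOf_eq] at hxq hyq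
      have hk4 : 4 ≤ k := by
        by_contra hlt
        have := Nat.pow_le_pow_right two_pos (show k ≤ 3 by omega)
        norm_num at this
        have h9 : Fintype.card F = 9 := by omega
        rw [h9] at hp
        norm_num at hp
      obtain ⟨j, rfl⟩ : ∃ j, k = j + 4 := ⟨k - 4, by omega⟩
      obtain ⟨z, hz⟩ : ∃ z : T, orderOf z = 8 * 2 ^ j := by
        have e' : (2 : ℕ) ^ (j + 4) = 2 * (8 * 2 ^ j) := by ring
        rcases hk with hk | hk
        · exact ⟨_, hxq.trans (by omega)⟩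
        · exact ⟨_, hyq.trans (by omega)⟩
      have h8 : orderOf (z ^ (orderOf z / 8)) = 8 := orderOf_pow_orderOf_div (orderOf_pos z).ne' (hz ▸ dvd_mul_right 8 _)
      have h4 : orderOf ((z ^ (orderOf z / 8)) ^ 2) = 4 := by rw [orderOf_pow, h8]; rfl
      have := h.eq_of_dvd Nat.prime_two (x := z ^ (orderOf z / 8)) (y := (z ^ (orderOf z / 8)) ^ 2)
        (by rw [h8]; norm_num) (by rw [h4]; norm_num) (by omega) (by omega)
      omega
  · exact Or.inr (Or.inr (Or.inr (Or.inl h34)))
  · exact Or.inr (Or.inr (Or.inr (Or.inr hsz)))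

section Concrete

/-- the elements of A6 used for the dihedral Sylow subgroup -/
theorem a6_data : ∃ a c w : alternatingGroup (Fin 6), a * a = 1 ∧ c * c * (c * c) = 1 ∧ c * c ≠ 1 ∧
    a * c = c⁻¹ * a ∧ orderOf w = 3 ∧ w * (c * c) * w⁻¹ = a ∧ w * a * w⁻¹ = a * (c * c) := by
  refine ⟨⟨Equiv.swap 0 1 * Equiv.swap 2 3, Equiv.Perm.mem_alternatingGroup.2 (by decide)⟩,
    ⟨Equiv.swap 0 1 * Equiv.swap 1 2 * Equiv.swap 2 3 * Equiv.swap 4 5, Equiv.Perm.mem_alternatingGroup.2 (by decide)⟩,
    ⟨Equiv.swap 1 3 * Equiv.swap 3 2, Equiv.Perm.mem_alternatingGroup.2 (by decide)⟩, by decide, by decide, by decide, by decide, ?_, by decide, by decide⟩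
  haveI : Fact (Nat.Prime 3) := ⟨Nat.prime_three⟩
  exact orderOf_eq_prime (by decide) (by decide)

end Concrete

variable {H : Type u} [Group H] [Finite H] {T' : Subgroup H} [T'.Normal]

theorem no_outer [IsSimpleGroup T'] (h : P3 H) (hC : centralizer (T' : Set H) = ⊥) (hL : ThreeList T') : T' = ⊤ := by
  classical
  haveI : Fact (Nat.Prime 2) := ⟨Nat.prime_two⟩
  have lift4 : (∃ x : T', orderOf x = 4) → PrimeGraphCIT.CIT H := fun ⟨x, hx⟩ =>
    h.cit (x := (x : H)) (by rw [Subgroup.orderOf_coe, hx])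
  have no8 : (∃ x : T', orderOf x = 4) → ∀ g : H, orderOf g ≠ 8 := fun ⟨x, hx⟩ g hg => by
    have := h.eq_of_dvd Nat.prime_two (x := (x : H)) (y := g) (by rw [Subgroup.orderOf_coe, hx]; norm_num)
      (by rw [hg]; norm_num) (by rw [Subgroup.orderOf_coe, hx]; norm_num) (by rw [hg]; norm_num)
    rw [Subgroup.orderOf_coe, hx, hg] at this
    norm_num at this
  rcases hL with ⟨F, iF, iFF, hc2, hq4, ⟨e⟩⟩ | ⟨F, iF, iFF, hq5, hq, ⟨e⟩⟩ | ⟨F, iF, iFF, hF, ⟨e⟩⟩ |
    ⟨F, iF, iFF, hF, ⟨e⟩⟩ | ⟨F, iF, iFF, m, hm, hF, ⟨e⟩⟩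
  · by_cases h4 : ∀ x : H, orderOf x ≠ 4
    · exact even_no_outer h h4 hC hq4 e
    · push Not at h4
      obtain ⟨x, hx⟩ := h4
      obtain ⟨n, -, hn⟩ := FiniteField.card F 2
      exact PrimeGraphCIT.eq_top_of_psl hn e (h.cit hx)
  · refine odd_no_outer h (fun x hx => ?_) hq hq5 e
    -- an even torus order excludes order 4
    obtain ⟨⟨xq, hxq⟩, ⟨yq, hyq⟩⟩ := CITSolv.exists_torus (F := F) (by omega)
    rw [show Nat.gcd 2 (Fintype.card F - 1) = 2 from Nat.gcd_eq_left (by omega), ← e.symm.orderOf_eq,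
      ← Subgroup.orderOf_coe] at hxq hyq
    rcases hq with hq' | hq'
    · have := h.eq_of_dvd Nat.prime_two (x := x) (y := ((e.symm yq : T') : H)) (by rw [hx]; norm_num)
        (by rw [hyq]; omega) (by rw [hx]; norm_num) (by rw [hyq]; omega)
      rw [hx, hyq] at this
      omega
    · have := h.eq_of_dvd Nat.prime_two (x := x) (y := ((e.symm xq : T') : H)) (by rw [hx]; norm_num)
        (by rw [hxq]; omega) (by rw [hx]; norm_num) (by rw [hxq]; omega)
      rw [hx, hxq] at this
      omega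
  · have hfour := exists_four_psl hF e
    have hH := lift4 hfour
    have hconj : ∀ s u : T', orderOf s = 2 → orderOf u = 2 → IsConj s u := conj_of_equiv e
    obtain ⟨x4, hx4⟩ := hfour
    have hidx : ∀ r : ℕ, r.Prime → r ∣ T'.index → r = 2 := fun r hr hrd =>
      index_two_pow hH hconj (t := ((x4 ^ 2 : T') : H)) (SetLike.coe_mem _)
        (by rw [Subgroup.orderOf_coe, orderOf_pow, hx4]; rfl) hr hrd
    have hcard := CITSolv.card_psl_two (F := F) (q := Fintype.card F) rfl
    rw [← Nat.card_congr e.toEquiv] at hcard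
    rcases hF with hF | hF
    · haveI : Fact (Nat.Prime 7) := ⟨by norm_num⟩
      rw [hF] at hcard
      norm_num at hcard
      have hc : Nat.card T' = 7 * 24 := by omega
      let P : Sylow 7 T' := default
      obtain ⟨-, hN⟩ := normalizer_of_simple (m := 3) hc (by norm_num) (by norm_num) (by decide) P
      refine seven_no_outer hH hidx hc (by norm_num) P hN fun x hx => ?_
      haveI : CharP F 7 := charP_of_card_eq_prime_pow (f := 1) (by rw [hF, pow_one])
      obtain ⟨g, hg⟩ := SL2Class.proj_surjective (e x)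
      have hd := SL2Class.orderOf_proj_dvd g 7
      rw [hg, e.orderOf_eq, hF] at hd
      norm_num at hd
      rcases hd with hd | hd | hd
      · exact Nat.dvd_antisymm hd hx
      · exact absurd (hx.trans hd) (by norm_num)
      · exact absurd (hx.trans hd) (by norm_num)
    · obtain ⟨f⟩ := Cfsg.Agent.S0254.result hF
      obtain ⟨a, c, w, ha, hc, hc2, hac, hw, hwt, hwa⟩ := a6_data
      set φ := (e.trans f).symm with hφ
      rw [hF] at hcard
      norm_num at hcard
      refine eight_no_outer hH (no8 ⟨x4, hx4⟩) hidx (fun P => ?_) (φ a) (φ c) (φ w) (by rw [← map_mul, ha, map_one])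
        (by rw [← map_mul, ← map_mul, hc, map_one]) (fun e' => hc2 (φ.injective (by rw [map_mul, e', map_one])))
        (by rw [← map_mul, hac, map_mul, map_inv]) (by rw [φ.orderOf_eq, hw])
        (by rw [← map_mul, ← map_mul, ← map_inv, ← map_mul, hwt])
        (by rw [← map_mul φ c c, ← map_inv, ← map_mul, ← map_mul, hwa, map_mul])
      rw [P.card_eq_multiplicity, show Nat.card T' = 2 ^ 3 * 45 by omega, Nat.factorization_def _ Nat.prime_two,
        padicValNat.mul (by norm_num) (by norm_num), padicValNat.prime_pow,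
        padicValNat.eq_zero_of_not_dvd (show ¬ 2 ∣ 45 by norm_num), add_zero]
      norm_num
  · obtain ⟨z, hz⟩ := psl34_four hF
    have hfour : ∃ x : T', orderOf x = 4 := ⟨e.symm z, by rw [e.symm.orderOf_eq, hz]⟩
    have hH := lift4 hfour
    have hconj : ∀ s u : T', orderOf s = 2 → orderOf u = 2 → IsConj s u := fun s u hs hu => by
      simpa using MonoidHom.map_isConj e.symm.toMonoidHom (psl34_conj hF (e s) (e u) (by rw [e.orderOf_eq, hs])
        (by rw [e.orderOf_eq, hu]))
    have hidx : ∀ r : ℕ, r.Prime → r ∣ T'.index → r = 2 := fun r hr hrd =>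
      index_two_pow hH hconj (t := (((e.symm z) ^ 2 : T') : H)) (SetLike.coe_mem _)
        (by rw [Subgroup.orderOf_coe, orderOf_pow, e.symm.orderOf_eq, hz]; rfl) hr hrd
    haveI : Fact (Nat.Prime 7) := ⟨by norm_num⟩
    have hc : Nat.card T' = 7 * 2880 := by
      rw [Nat.card_congr e.toEquiv, PrimeGraphCIT.card_psl_three_four hF]
    have hE : S3992.EPPO T' := fun g hg => by
      rw [← e.orderOf_eq]
      exact psl34_eppo hF (e g) fun e' => hg (e.injective (by rw [e', map_one]))
    let P : Sylow 7 T' := default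
    refine seven_no_outer hH hidx hc (by norm_num) P
      (EPPOClass.sylow_normalizer hE 7 2880 3 hc (by norm_num) (by decide) P) fun x hx => ?_
    rw [← e.orderOf_eq] at hx ⊢
    rcases psl34_orders hF (e x) with hd | hd | hd | hd
    · exact Nat.dvd_antisymm hd hx
    all_goals exact absurd (hx.trans hd) (by norm_num)
  · obtain ⟨g⟩ := Suzuki.nonempty_equiv hm hF
    obtain ⟨z, hz⟩ := sz_four hm hF
    have hH := lift4 ⟨(e.trans g.symm).symm z, by rw [MulEquiv.orderOf_eq, hz]⟩
    obtain ⟨r, hr, hrd, hr4⟩ := PrimeGraphCIT.exists_prime_three_mod_four (Nat.card F - 1) (by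
      rw [Nat.card_eq_fintype_card, hF, pow_succ]
      obtain ⟨j, hj⟩ : 4 ∣ 2 ^ (2 * m) * 2 := (pow_dvd_pow 2 (show 2 ≤ 2 * m by omega)).mul_right 2
      have := Nat.one_le_two_pow (n := 2 * m)
      omega)
    exact PrimeGraphCIT.eq_top_of_sz hm hF (e.trans g.symm) hH hr hr4 hrd

end Cfsg.Agent.ThreeOrders
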