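import Cfsg.Agent.ThreeOrders.Basic
import Cfsg.Agent.CyclicZ.Like

/-!
The socle of a group with trivial radical in which no prime divides three element orders.
-/

set_option autoImplicit false
set_option linter.style.haveILetI false
set_option linter.unusedSectionVars false

open Subgroup

namespace Cfsg.Agent.ThreeOrders

universe u

variable {G : Type u} [Group G] [Finite G]

/-- two commuting subgroups cannot both be non-solvable -/
theorem P3.commuting (h : P3 G) (A B : Subgroup G) (hc : ∀ a ∈ A, ∀ b ∈ B, Commute a b)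
    (hA : ¬ Group.IsSolvable A) (hB : ¬ Group.IsSolvable B) : False := by
  classical
  have hA3 := S4068.three_le_primeFactors hA
  have hB3 := S4068.three_le_primeFactors hB
  obtain ⟨r, hr⟩ := Finset.card_pos.1 (by omega : 0 < (Nat.card B).primeFactors.card)
  have hle : 2 ≤ ((Nat.card A).primeFactors.erase r).card := by
    have := Finset.pred_card_le_card_erase (s := (Nat.card A).primeFactors) (a := r)
    omega
  obtain ⟨p, hp, q, hq, hpq⟩ := Finset.one_lt_card.1 hle
  rw [Finset.mem_erase, Nat.mem_primeFactors] at hp hq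
  obtain ⟨hrp, hrd, -⟩ := Nat.mem_primeFactors.1 hr
  haveI := Fact.mk hrp
  haveI := Fact.mk hp.2.1
  haveI := Fact.mk hq.2.1
  obtain ⟨z, hz⟩ := exists_prime_orderOf_dvd_card' (G := B) r hrd
  obtain ⟨x, hx⟩ := exists_prime_orderOf_dvd_card' (G := A) p hp.2.2.1
  obtain ⟨y, hy⟩ := exists_prime_orderOf_dvd_card' (G := A) q hq.2.2.1
  rw [← Subgroup.orderOf_coe] at hx hy hz
  exact h.not_two_partners hrp hp.2.1 hq.2.1 hp.1.symm hq.1.symm hpq
    ⟨_, orderOf_mul_primes hrp hp.2.1 hp.1.symm hz hx ((hc x x.2 z z.2).symm)⟩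
    ⟨_, orderOf_mul_primes hrp hq.2.1 hq.1.symm hz hy ((hc y y.2 z z.2).symm)⟩

theorem exists_socle (h : P3 G) (hns : ¬ Group.IsSolvable G)
    (hrad : ∀ N : Subgroup G, N.Normal → Group.IsSolvable N → N = ⊥) :
    ∃ T : Subgroup G, T.Normal ∧ IsSimpleGroup T ∧ ¬ IsMulCommutative T ∧
      centralizer (T : Set G) = ⊥ := by
  classical
  have htop : (⊤ : Subgroup G).Normal ∧ (⊤ : Subgroup G) ≠ ⊥ := ⟨inferInstance, fun e => by
    have hsub : Subsingleton G := Subgroup.subsingleton_iff.1 (subsingleton_of_bot_eq_top e.symm)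
    exact hns inferInstance⟩
  obtain ⟨T, hT⟩ := Set.Finite.exists_minimal
    (Set.toFinite {K : Subgroup G | K.Normal ∧ K ≠ ⊥}) ⟨⊤, htop⟩
  obtain ⟨hTn, hT1⟩ := hT.1
  have hmin : ∀ K : Subgroup G, K.Normal → K ≠ ⊥ → K ≤ T → K = T := fun K hK hK1 hle =>
    le_antisymm hle (hT.2 ⟨hK, hK1⟩ hle)
  have hTns : ¬ Group.IsSolvable T := fun hs => hT1 (hrad T hTn hs)
  have hCT : centralizer (T : Set G) = ⊥ := by
    by_contra hne
    have hn : (centralizer (T : Set G)).Normal := inferInstance
    exact h.commuting T (centralizer (T : Set G)) (fun a ha b hb => hb a ha) hTns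
      fun hs => hne (hrad _ hn hs)
  have : Nontrivial T := (nontrivial_iff_ne_bot T).2 hT1
  -- a solvable normal subgroup of `T` is trivial
  have hradT : ∀ N : Subgroup T, N.Normal → Group.IsSolvable N → N = ⊥ := by
    intro N hN hNs
    obtain ⟨R, hRn, hRs, hRmax⟩ := CyclicZ.exists_radical T
    have hch : R.Characteristic := by
      refine characteristic_iff_map_le.2 fun φ => hRmax _ (hRn.map _ φ.surjective) (CyclicZ.isSolvable_map _ hRs)
    have hb := hrad (R.map T.subtype) (ConjAct.normal_of_characteristic_of_normal)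
      (CyclicZ.isSolvable_map _ hRs)
    rw [Subgroup.map_eq_bot_iff, ker_subtype, le_bot_iff] at hb
    exact le_bot_iff.1 (hb ▸ hRmax N hN hNs)
  refine ⟨T, hTn, ⟨fun N hN => ?_⟩, fun hc => hTns (Group.isSolvable_of_comm hc.is_comm.comm), hCT⟩
  by_contra! hcon
  obtain ⟨M, hM⟩ := Set.Finite.exists_minimal
    (Set.toFinite {K : Subgroup T | K.Normal ∧ K ≠ ⊥ ∧ K ≤ N}) ⟨N, hN, hcon.1, le_rfl⟩
  obtain ⟨hMn, hM1, hMN⟩ := hM.1
  have hMmin : ∀ K : Subgroup T, K.Normal → K ≠ ⊥ → K ≤ M → K = M := fun K hK hK1 hle =>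
    le_antisymm hle (hM.2 ⟨hK, hK1, hle.trans hMN⟩ hle)
  -- `G` normalises `M`
  have hG : ∀ g : G, ∀ a ∈ M.map T.subtype, g * a * g⁻¹ ∈ M.map T.subtype := by
    intro g
    let φ : MulAut T := MulAut.conjNormal g
    set M' := M.map φ.toMonoidHom with hM'
    have hM'n : M'.Normal := hMn.map _ φ.surjective
    have hinf : M ⊓ M' ≠ ⊥ := by
      intro hb
      have hdisj : Disjoint M M' := disjoint_iff.2 hb
      refine (h.subgroup T).commuting M M' (fun a ha b hb => commute_of_normal_of_disjoint _ _ hMn hM'n hdisj a b ha hb)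
        (fun hs => hM1 (hradT M hMn hs)) fun hs => hM1 ?_
      have h1 := hradT M' hM'n hs
      rw [hM', Subgroup.map_eq_bot_iff_of_injective (f := φ.toMonoidHom) _ φ.injective] at h1
      exact h1
    have heq : M ⊓ M' = M := hMmin _ inferInstance hinf inf_le_left
    have hle : M ≤ M' := inf_eq_left.1 heq
    have hMM' : M = M' := Subgroup.eq_of_le_of_card_ge hle
      (by rw [hM', card_map_of_injective (f := φ.toMonoidHom) φ.injective])
    rintro _ ⟨a, ha, rfl⟩
    refine ⟨φ a, hMM' ▸ mem_map_of_mem _ ha, ?_⟩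
    exact MulAut.conjNormal_apply g a
  have hMmap : (M.map T.subtype).Normal := ⟨fun a ha g => hG g a ha⟩
  have heqT := hmin _ hMmap (by rw [Ne, Subgroup.map_eq_bot_iff, ker_subtype, le_bot_iff]; exact hM1)
    (map_subtype_le M)
  have hMtop : M = ⊤ := by
    apply Subgroup.map_injective T.subtype_injective
    rw [heqT, ← MonoidHom.range_eq_map, range_subtype]
  exact hcon.2 (top_le_iff.1 (hMtop ▸ hMN))

end Cfsg.Agent.ThreeOrders
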