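import Cfsg.Agent.ThreeOrders.Radical
import Cfsg.Agent.ThreeOrders.Socle
import Cfsg.Agent.Core.PCore

/-!
Non-solvable groups in which no prime divides three element orders, given the simple case.
-/

set_option autoImplicit false
set_option linter.style.haveILetI false
set_option linter.unusedSectionVars false

open Subgroup

namespace Cfsg.Agent.ThreeOrders

universe u

theorem ThreeList.of_equiv {T : Type u} [Group T] {K : Type u} [Group K] (hL : ThreeList T) (f : K ≃* T) :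
    ThreeList K := by
  rcases hL with ⟨F, i, j, a, b, ⟨e⟩⟩ | ⟨F, i, j, a, b, ⟨e⟩⟩ | ⟨F, i, j, a, ⟨e⟩⟩ | ⟨F, i, j, a, ⟨e⟩⟩ |
    ⟨F, i, j, m, a, b, ⟨e⟩⟩
  · exact Or.inl ⟨F, i, j, a, b, ⟨f.trans e⟩⟩
  · exact Or.inr (Or.inl ⟨F, i, j, a, b, ⟨f.trans e⟩⟩)
  · exact Or.inr (Or.inr (Or.inl ⟨F, i, j, a, ⟨f.trans e⟩⟩))
  · exact Or.inr (Or.inr (Or.inr (Or.inl ⟨F, i, j, a, ⟨f.trans e⟩⟩)))
  · exact Or.inr (Or.inr (Or.inr (Or.inr ⟨F, i, j, m, a, b, ⟨f.trans e⟩⟩)))

variable {G : Type u} [Group G] [Finite G]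

/-- over a non-trivial radical the quotient is PSL(2,2^f) and there is an element of order 4 -/
theorem radical_quotient (h : P3 G) (R : Subgroup G) [R.Normal] (hRs : Group.IsSolvable R) (hR : R ≠ ⊥)
    [IsSimpleGroup (G ⧸ R)] (hna : ∃ a b : G ⧸ R, a * b ≠ b * a) (hL : ThreeList (G ⧸ R)) :
    (∃ (F : Type) (_ : Field F) (_ : Fintype F), CharP F 2 ∧ 4 ≤ Fintype.card F ∧
        Nonempty ((G ⧸ R) ≃* Matrix.ProjectiveSpecialLinearGroup (Fin 2) F)) ∧
      ∃ x : G, orderOf x = 4 := by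
  classical
  obtain ⟨N, hN⟩ := Set.Finite.exists_maximal (Set.toFinite {K : Subgroup G | K.Normal ∧ K < R})
    ⟨⊥, inferInstance, bot_lt_iff_ne_bot.2 hR⟩
  obtain ⟨hNn, hNR⟩ := hN.1
  haveI := hNn
  set π := QuotientGroup.mk' N with hπ
  set V := R.map π with hV
  haveI : V.Normal := (inferInstance : R.Normal).map π (QuotientGroup.mk'_surjective N)
  have hVne : V ≠ ⊥ := by
    rw [hV, Ne, Subgroup.map_eq_bot_iff, hπ, QuotientGroup.ker_mk']
    exact hNR.not_ge
  have hmin : ∀ E : Subgroup (G ⧸ N), E.Normal → E ≠ ⊥ → E ≤ V → E = V := by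
    intro E hE hE1 hEV
    have hle : E.comap π ≤ R := by
      refine (comap_mono hEV).trans ?_
      rw [hV, comap_map_eq, hπ, QuotientGroup.ker_mk', sup_eq_left.2 hNR.le]
    have hNle : N ≤ E.comap π := by
      have := Subgroup.ker_le_comap (f := π) (H := E)
      rwa [hπ, QuotientGroup.ker_mk'] at this
    rcases hle.lt_or_eq with hlt | heq
    · exfalso
      have := hN.2 ⟨hE.comap π, hlt⟩ hNle
      refine hE1 ?_
      rw [← map_comap_eq_self_of_surjective (QuotientGroup.mk'_surjective N) E, Subgroup.map_eq_bot_iff,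
        QuotientGroup.ker_mk']
      exact this
    · rw [hV, ← heq, map_comap_eq_self_of_surjective (QuotientGroup.mk'_surjective N)]
  have hVs : Group.IsSolvable V := CyclicZ.isSolvable_map π hRs
  obtain ⟨E, hEn, hE1, hEle, hEc⟩ : ∃ E : Subgroup (G ⧸ N), E.Normal ∧ E ≠ ⊥ ∧ E ≤ V ∧
      ∀ a ∈ E, ∀ b ∈ E, a * b = b * a := by
    obtain ⟨n, hn⟩ := hVs.solvable
    have hex : ∃ i, (derivedSeries V i).map V.subtype = ⊥ := ⟨n, by rw [hn, Subgroup.map_bot]⟩
    have h0 : Nat.find hex ≠ 0 := fun e => hVne (by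
      have := Nat.find_spec hex
      rwa [e, derivedSeries_zero, ← MonoidHom.range_eq_map, range_subtype] at this)
    obtain ⟨i, hi⟩ := Nat.exists_eq_succ_of_ne_zero h0
    have hsucc : (derivedSeries V (i + 1)).map V.subtype = ⊥ := by
      have := Nat.find_spec hex
      rwa [hi] at this
    refine ⟨(derivedSeries V i).map V.subtype, ?_, Nat.find_min hex (by omega), map_subtype_le _, ?_⟩
    · have : (derivedSeries V i).Characteristic := derivedSeries_characteristic V i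
      exact ConjAct.normal_of_characteristic_of_normal
    · rintro _ ⟨a, ha, rfl⟩ _ ⟨b, hb, rfl⟩
      have hab : a * b * a⁻¹ * b⁻¹ ∈ derivedSeries V (i + 1) := by
        rw [derivedSeries_succ]
        exact commutator_mem_commutator ha hb
      have hm := mem_map_of_mem V.subtype hab
      rw [hsucc, mem_bot, map_mul, map_mul, map_mul, map_inv, map_inv, mul_inv_eq_one,
        mul_inv_eq_iff_eq_mul] at hm
      exact hm
  have hEV := hmin E hEn hE1 hEle
  rw [hEV] at hEc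
  haveI : IsMulCommutative V := ⟨⟨fun a b => Subtype.ext (hEc a a.2 b b.2)⟩⟩
  obtain ⟨p, hp, hpd⟩ := Nat.exists_prime_and_dvd (n := Nat.card V) (fun e => hVne (card_eq_one.1 e))
  haveI := Fact.mk hp
  let Ω : Subgroup (G ⧸ N) :=
    { carrier := {v | v ∈ V ∧ v ^ p = 1}
      one_mem' := ⟨V.one_mem, one_pow p⟩
      mul_mem' := fun {a b} ha hb => ⟨V.mul_mem ha.1 hb.1, by
        rw [(show Commute a b from hEc a ha.1 b hb.1).mul_pow, ha.2, hb.2, one_mul]⟩
      inv_mem' := fun {a} ha => ⟨V.inv_mem ha.1, by rw [inv_pow, ha.2, inv_one]⟩ }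
  have hΩ : Ω = V := by
    refine hmin Ω ⟨fun a ha g => ⟨Subgroup.Normal.conj_mem inferInstance a ha.1 g, by rw [conj_pow, ha.2]; simp⟩⟩
      ?_ fun a ha => ha.1
    intro hb
    obtain ⟨v, hv⟩ := exists_prime_orderOf_dvd_card' (G := V) p hpd
    have hv' : ((v : V) : G ⧸ N) ∈ Ω := ⟨v.2, by
      rw [← hv, ← Subgroup.orderOf_coe, pow_orderOf_eq_one]⟩
    rw [hb, mem_bot] at hv'
    rw [← Subgroup.orderOf_coe, hv', orderOf_one] at hv
    exact hp.ne_one hv.symm
  have hVp : ∀ v ∈ V, v ^ p = 1 := fun v hv => (hΩ.symm ▸ hv : v ∈ Ω).2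
  let f : (G ⧸ N) ⧸ V ≃* G ⧸ R := QuotientGroup.quotientQuotientEquivQuotient N R hNR.le
  haveI : Nontrivial ((G ⧸ N) ⧸ V) := f.toEquiv.nontrivial
  haveI : IsSimpleGroup ((G ⧸ N) ⧸ V) := IsSimpleGroup.isSimpleGroup_of_surjective f.symm.toMonoidHom f.symm.surjective
  obtain ⟨a, b, hab⟩ := hna
  obtain ⟨⟨F, iF, iFF, hc2, hq4, ⟨e⟩⟩, x, hx⟩ := no_factor V (h.quotient N) hVne hp hVp
    ⟨f.symm a, f.symm b, fun e => hab (f.symm.injective (by rw [map_mul, map_mul, e]))⟩ (hL.of_equiv f)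
  obtain ⟨g, hg⟩ := exists_orderOf_quotient N x
  exact ⟨⟨F, iF, iFF, hc2, hq4, ⟨f.symm.trans e⟩⟩, g, hg.trans hx⟩

/-- Non-solvable groups in which no prime divides three element orders. -/
theorem main (hcls : ∀ (T : Type u) [Group T] [Finite T] [IsSimpleGroup T], (∃ a b : T, a * b ≠ b * a) →
      P3 T → ThreeList T)
    (hG : ¬ Group.IsSolvable G) (h : P3 G) :
    (∃ (F : Type) (_ : Field F) (_ : Fintype F), CharP F 2 ∧ 4 ≤ Fintype.card F ∧
        (Fintype.card F + 1).primeFactorsList.length ≤ 2 ∧ (Fintype.card F - 1).primeFactorsList.length ≤ 2 ∧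
        Nonempty (G ⧸ Cfsg.pCore 2 G ≃* Matrix.ProjectiveSpecialLinearGroup (Fin 2) F)) ∨
    (∃ (F : Type) (_ : Field F) (_ : Fintype F), 5 < Fintype.card F ∧ (Fintype.card F % 8 = 3 ∨ Fintype.card F % 8 = 5) ∧
        ((Fintype.card F + 1) / 2).primeFactorsList.length ≤ 2 ∧ ((Fintype.card F - 1) / 2).primeFactorsList.length ≤ 2 ∧
        Nonempty (G ≃* Matrix.ProjectiveSpecialLinearGroup (Fin 2) F)) ∨
    (∃ (F : Type) (_ : Field F) (_ : Fintype F), (Fintype.card F = 7 ∨ Fintype.card F = 9) ∧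
        Nonempty (G ≃* Matrix.ProjectiveSpecialLinearGroup (Fin 2) F)) ∨
    (∃ (F : Type) (_ : Field F) (_ : Fintype F), Fintype.card F = 4 ∧
        Nonempty (G ≃* Matrix.ProjectiveSpecialLinearGroup (Fin 3) F)) ∨
    (∃ n : ℕ, 1 ≤ n ∧ IsSimpleGroup G ∧
        Nat.card G = (2 ^ (2 * n + 1)) ^ 2 * ((2 ^ (2 * n + 1)) ^ 2 + 1) * (2 ^ (2 * n + 1) - 1) ∧
        (2 ^ (2 * n + 1) - 1).primeFactorsList.length ≤ 2 ∧
        (2 ^ (2 * n + 1) - 2 ^ (n + 1) + 1).primeFactorsList.length ≤ 2 ∧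
        (2 ^ (2 * n + 1) + 2 ^ (n + 1) + 1).primeFactorsList.length ≤ 2) := by
  classical
  haveI : Fact (Nat.Prime 2) := ⟨Nat.prime_two⟩
  obtain ⟨R, hRn, hRs, hRmax⟩ := CyclicZ.exists_radical G
  haveI := hRn
  set π := QuotientGroup.mk' R with hπ
  have hQns : ¬ Group.IsSolvable (G ⧸ R) := fun hs =>
    hG (Group.isSolvable_of_ker_le_range R.subtype π (by rw [hπ, QuotientGroup.ker_mk', Subgroup.range_subtype]))
  have hrad : ∀ N : Subgroup (G ⧸ R), N.Normal → Group.IsSolvable N → N = ⊥ := by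
    intro N hN hNs
    have hle : R ≤ N.comap π := by
      have := Subgroup.ker_le_comap (f := π) (H := N)
      rwa [hπ, QuotientGroup.ker_mk'] at this
    have hs : Group.IsSolvable (N.comap π) := by
      refine Group.isSolvable_of_ker_le_range (Subgroup.inclusion hle) (π.subgroupComap N) ?_
      intro x hx
      have : QuotientGroup.mk' R (x : G) = 1 := congrArg Subtype.val hx
      exact ⟨⟨x, (QuotientGroup.eq_one_iff _).1 this⟩, rfl⟩
    rw [← map_comap_eq_self_of_surjective (QuotientGroup.mk'_surjective R) N, Subgroup.map_eq_bot_iff,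
      QuotientGroup.ker_mk']
    exact hRmax _ (hN.comap π) hs
  obtain ⟨T, hTn, hTs, hTna, hTC⟩ := exists_socle (h.quotient R) hQns hrad
  haveI := hTn
  haveI := hTs
  have hTna' : ∃ a b : T, a * b ≠ b * a := by
    by_contra hc
    push Not at hc
    exact hTna ⟨⟨hc⟩⟩
  have hTL := hcls T hTna' ((h.quotient R).subgroup T)
  have htop := no_outer (h.quotient R) hTC hTL
  subst htop
  let f : (⊤ : Subgroup (G ⧸ R)) ≃* G ⧸ R := Subgroup.topEquiv
  haveI : Nontrivial (G ⧸ R) := f.symm.toEquiv.nontrivial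
  haveI : IsSimpleGroup (G ⧸ R) := IsSimpleGroup.isSimpleGroup_of_surjective f.toMonoidHom f.surjective
  have hna : ∃ a b : G ⧸ R, a * b ≠ b * a := by
    obtain ⟨a, b, hab⟩ := hTna'
    exact ⟨f a, f b, fun e => hab (f.injective (by rw [map_mul, map_mul, e]))⟩
  have hL : ThreeList (G ⧸ R) := hTL.of_equiv f.symm
  have len : ∀ q : G ⧸ R, (orderOf q).primeFactorsList.length ≤ 2 := (h.quotient R).length_le_two
  have hcoreR : Cfsg.pCore 2 G ≤ R := hRmax _ inferInstance (by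
    haveI : Group.IsNilpotent (Cfsg.pCore 2 G) := Core.pCore_isPGroup.isNilpotent
    infer_instance)
  by_cases hR : R = ⊥
  · let g : G ≃* G ⧸ R := (QuotientGroup.quotientBot (G := G)).symm.trans
      (QuotientGroup.quotientMulEquivOfEq hR.symm)
    rcases hL with ⟨F, iF, iFF, hc2, hq4, ⟨e⟩⟩ | ⟨F, iF, iFF, hq5, hq, ⟨e⟩⟩ | ⟨F, iF, iFF, hF, ⟨e⟩⟩ |
      ⟨F, iF, iFF, hF, ⟨e⟩⟩ | ⟨F, iF, iFF, m, hm, hF, ⟨e⟩⟩
    · obtain ⟨⟨xq, hxq⟩, ⟨yq, hyq⟩⟩ := CITSolv.exists_torus (F := F) hq4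
      obtain ⟨k, -, hk⟩ := FiniteField.card F 2
      have hodd : Nat.gcd 2 (Fintype.card F - 1) = 1 := by
        refine Nat.coprime_two_left.2 (Nat.odd_iff.2 ?_)
        have h2q : 2 ∣ Fintype.card F := hk ▸ dvd_pow_self 2 k.ne_zero
        omega
      rw [hodd, Nat.div_one] at hxq hyq
      refine Or.inl ⟨F, iF, iFF, hc2, hq4, ?_, ?_, ⟨(QuotientGroup.quotientMulEquivOfEq
        (le_antisymm hcoreR (hR ▸ bot_le))).trans e⟩⟩
      · rw [← hyq, ← e.symm.orderOf_eq]; exact len _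
      · rw [← hxq, ← e.symm.orderOf_eq]; exact len _
    · obtain ⟨⟨xq, hxq⟩, ⟨yq, hyq⟩⟩ := CITSolv.exists_torus (F := F) (by omega)
      rw [show Nat.gcd 2 (Fintype.card F - 1) = 2 from Nat.gcd_eq_left (by omega)] at hxq hyq
      refine Or.inr (Or.inl ⟨F, iF, iFF, hq5, hq, ?_, ?_, ⟨g.trans e⟩⟩)
      · rw [← hyq, ← e.symm.orderOf_eq]; exact len _
      · rw [← hxq, ← e.symm.orderOf_eq]; exact len _
    · exact Or.inr (Or.inr (Or.inl ⟨F, iF, iFF, hF, ⟨g.trans e⟩⟩))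
    · exact Or.inr (Or.inr (Or.inr (Or.inl ⟨F, iF, iFF, hF, ⟨g.trans e⟩⟩)))
    · obtain ⟨s⟩ := Suzuki.nonempty_equiv hm hF
      let e' : G ⧸ R ≃* Cfsg.Sz F m := e.trans s.symm
      haveI : Nontrivial G := g.toEquiv.nontrivial
      refine Or.inr (Or.inr (Or.inr (Or.inr ⟨m, hm,
        IsSimpleGroup.isSimpleGroup_of_surjective g.symm.toMonoidHom g.symm.surjective, ?_, ?_, ?_, ?_⟩)))
      · rw [Nat.card_congr (g.trans e').toEquiv, Suzuki.card_sz hm hF, Nat.card_eq_fintype_card, hF]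
        ring
      · obtain ⟨a, ha⟩ := IsCyclic.exists_ofOrder_eq_natCard (α := Fˣ)
        have hH : orderOf (Suzuki.H (RankOne.Ovoid.good_of_card (m := m) hF) a) = 2 ^ (2 * m + 1) - 1 := by
          rw [orderOf_injective _ (Suzuki.H_injective _), ha, Nat.card_units, Nat.card_eq_fintype_card, hF]
        rw [← hH, ← e'.symm.orderOf_eq]
        exact len _
      · obtain ⟨U, hU, hUc, -, -⟩ := S0333.result hm hF (2 ^ (2 * m + 1) - 2 ^ (m + 1) + 1)
          (Set.mem_insert_of_mem _ (Set.mem_singleton _))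
        obtain ⟨u, hu⟩ := hU.exists_ofOrder_eq_natCard
        rw [hUc, ← Subgroup.orderOf_coe, ← e'.symm.orderOf_eq] at hu
        rw [← hu]
        exact len _
      · obtain ⟨U, hU, hUc, -, -⟩ := S0333.result hm hF (2 ^ (2 * m + 1) + 2 ^ (m + 1) + 1) (Set.mem_insert _ _)
        obtain ⟨u, hu⟩ := hU.exists_ofOrder_eq_natCard
        rw [hUc, ← Subgroup.orderOf_coe, ← e'.symm.orderOf_eq] at hu
        rw [← hu]
        exact len _
  -- a non-trivial radical
  obtain ⟨⟨F, iF, iFF, hc2, hq4, ⟨e⟩⟩, x, hx⟩ := radical_quotient h R hRs hR hna hL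
  have hcit := h.cit hx
  have hC : Cfsg.pCore 2 G = R := by
    refine le_antisymm hcoreR ?_
    have hcq : PrimeGraphCIT.CIT (G ⧸ Cfsg.pCore 2 G) := hcit.quotient _ Core.pCore_isPGroup
    have hns' : ¬ Group.IsSolvable (G ⧸ Cfsg.pCore 2 G) := fun hs => by
      haveI : Group.IsNilpotent (Cfsg.pCore 2 G) := Core.pCore_isPGroup.isNilpotent
      exact hG (Group.isSolvable_of_ker_le_range (Cfsg.pCore 2 G).subtype (QuotientGroup.mk' (Cfsg.pCore 2 G))
        (by rw [QuotientGroup.ker_mk', Subgroup.range_subtype]))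
    haveI := hRn.map (QuotientGroup.mk' (Cfsg.pCore 2 G)) (QuotientGroup.mk'_surjective _)
    have hb := hcq.eq_bot_of_solvable (fun H _ _ ho => S0205.result ho) hns'
      (fun N hN hN2 => by
        haveI := hN
        have hle := Core.le_pCore (N := N) hN2
        rw [Core.pCore_quotient_eq_bot] at hle
        exact le_bot_iff.1 hle)
      (R.map (QuotientGroup.mk' (Cfsg.pCore 2 G))) (CyclicZ.isSolvable_map _ hRs)
    rwa [Subgroup.map_eq_bot_iff, QuotientGroup.ker_mk'] at hb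
  obtain ⟨⟨xq, hxq⟩, ⟨yq, hyq⟩⟩ := CITSolv.exists_torus (F := F) hq4
  obtain ⟨k, -, hk⟩ := FiniteField.card F 2
  have hodd : Nat.gcd 2 (Fintype.card F - 1) = 1 := by
    refine Nat.coprime_two_left.2 (Nat.odd_iff.2 ?_)
    have h2q : 2 ∣ Fintype.card F := hk ▸ dvd_pow_self 2 k.ne_zero
    omega
  rw [hodd, Nat.div_one] at hxq hyq
  refine Or.inl ⟨F, iF, iFF, hc2, hq4, ?_, ?_, ⟨(QuotientGroup.quotientMulEquivOfEq hC).trans e⟩⟩
  · rw [← hyq, ← e.symm.orderOf_eq]; exact len _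
  · rw [← hxq, ← e.symm.orderOf_eq]; exact len _

end Cfsg.Agent.ThreeOrders
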