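import Cfsg.Agent.PrimeGraphCIT.Reduce
import Cfsg.Agent.S4068

/-!
Groups in which no prime divides three different element orders: first properties.
-/

set_option autoImplicit false
set_option linter.style.haveILetI false
set_option linter.unusedSectionVars false

open Subgroup

namespace Cfsg.Agent.ThreeOrders

universe u

/-- no prime divides three different element orders -/
def P3 (G : Type u) [Group G] : Prop :=
  ∀ p : ℕ, p.Prime → ∀ a b c : G, orderOf a ≠ orderOf b → orderOf b ≠ orderOf c → orderOf a ≠ orderOf c →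
    ¬ (p ∣ orderOf a ∧ p ∣ orderOf b ∧ p ∣ orderOf c)

variable {G : Type u} [Group G] [Finite G]

/-- the only order divisible by `p` other than `p` is unique -/
theorem P3.eq_of_dvd (h : P3 G) {p : ℕ} (hp : p.Prime) {x y : G} (hx : p ∣ orderOf x) (hy : p ∣ orderOf y)
    (hxp : orderOf x ≠ p) (hyp : orderOf y ≠ p) : orderOf x = orderOf y := by
  by_contra hne
  have ho : orderOf (x ^ (orderOf x / p)) = p := orderOf_pow_orderOf_div (orderOf_pos x).ne' hx
  exact h p hp (x ^ (orderOf x / p)) x y (by rw [ho]; exact hxp.symm) hne (by rw [ho]; exact hyp.symm)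
    ⟨by rw [ho], hx, hy⟩

omit [Finite G] in
theorem P3.subgroup (h : P3 G) (H : Subgroup G) : P3 H := fun p hp a b c hab hbc hac hd =>
  h p hp a b c (by simpa only [Subgroup.orderOf_coe] using hab) (by simpa only [Subgroup.orderOf_coe] using hbc)
    (by simpa only [Subgroup.orderOf_coe] using hac) (by simpa only [Subgroup.orderOf_coe] using hd)

omit [Finite G] in
theorem P3.of_equiv (h : P3 G) {K : Type*} [Group K] (e : K ≃* G) : P3 K := fun p hp a b c hab hbc hac hd => by
  simp only [← e.orderOf_eq] at hab hbc hac hd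
  exact h p hp (e a) (e b) (e c) hab hbc hac hd

/-- element orders of a quotient are element orders -/
theorem exists_orderOf_quotient (N : Subgroup G) [N.Normal] (q : G ⧸ N) : ∃ g : G, orderOf g = orderOf q := by
  obtain ⟨g, rfl⟩ := QuotientGroup.mk'_surjective N q
  have hd : orderOf (QuotientGroup.mk' N g) ∣ orderOf g := orderOf_map_dvd _ g
  exact ⟨g ^ (orderOf g / orderOf (QuotientGroup.mk' N g)), orderOf_pow_orderOf_div (orderOf_pos g).ne' hd⟩

theorem P3.quotient (h : P3 G) (N : Subgroup G) [N.Normal] : P3 (G ⧸ N) := fun p hp a b c hab hbc hac hd => by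
  obtain ⟨a', ha⟩ := exists_orderOf_quotient N a
  obtain ⟨b', hb⟩ := exists_orderOf_quotient N b
  obtain ⟨c', hc⟩ := exists_orderOf_quotient N c
  rw [← ha, ← hb] at hab
  rw [← hb, ← hc] at hbc
  rw [← ha, ← hc] at hac
  rw [← ha, ← hb, ← hc] at hd
  exact h p hp a' b' c' hab hbc hac hd

/-- a commuting pair of a `p`-element and a `q`-element, of orders `p` and `q` -/
theorem orderOf_mul_primes {x y : G} {p q : ℕ} (hp : p.Prime) (hq : q.Prime) (hpq : p ≠ q)
    (hx : orderOf x = p) (hy : orderOf y = q) (hc : Commute x y) : orderOf (x * y) = p * q := by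
  rw [hc.orderOf_mul_eq_mul_orderOf_of_coprime (by rw [hx, hy]; exact (Nat.coprime_primes hp hq).2 hpq), hx, hy]

/-- one prime cannot have elements of two different further primes commuting with it -/
theorem P3.not_two_partners (h : P3 G) {p q r : ℕ} (hp : p.Prime) (hq : q.Prime) (hr : r.Prime)
    (hpq : p ≠ q) (hpr : p ≠ r) (hqr : q ≠ r) (hx : ∃ x : G, orderOf x = p * q)
    (hy : ∃ y : G, orderOf y = p * r) : False := by
  obtain ⟨x, hx⟩ := hx
  obtain ⟨y, hy⟩ := hy
  have := h.eq_of_dvd hp (x := x) (y := y) (hx ▸ dvd_mul_right p q) (hy ▸ dvd_mul_right p r)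
    (by rw [hx]; intro e; exact hq.ne_one (Nat.eq_of_mul_eq_mul_left hp.pos (by rw [e, mul_one])))
    (by rw [hy]; intro e; exact hr.ne_one (Nat.eq_of_mul_eq_mul_left hp.pos (by rw [e, mul_one])))
  rw [hx, hy] at this
  exact hqr (Nat.eq_of_mul_eq_mul_left hp.pos this)

/-- an element order is a product of at most two primes -/
theorem P3.length_le_two (h : P3 G) (x : G) : (orderOf x).primeFactorsList.length ≤ 2 := by
  by_contra hlen
  obtain ⟨p, q, r, l, hl⟩ : ∃ p q r l, (orderOf x).primeFactorsList = p :: q :: r :: l := by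
    match hL : (orderOf x).primeFactorsList with
    | [] => simp [hL] at hlen
    | [a] => simp [hL] at hlen
    | [a, b] => simp [hL] at hlen
    | a :: b :: c :: l => exact ⟨a, b, c, l, rfl⟩
  have hpr : ∀ z ∈ p :: q :: r :: l, z.Prime := fun z hz => Nat.prime_of_mem_primeFactorsList (hl ▸ hz)
  have hprod := Nat.prod_primeFactorsList (orderOf_pos x).ne'
  rw [hl] at hprod
  simp only [List.prod_cons] at hprod
  have hp := hpr p (by simp)
  have hq := hpr q (by simp)
  have hr := hpr r (by simp)
  have hL1 : 1 ≤ l.prod := by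
    rcases Nat.eq_zero_or_pos l.prod with h0 | h0
    · rw [h0] at hprod
      simp at hprod
      exact absurd hprod.symm (orderOf_pos x).ne'
    · exact h0
  have hd : p * q ∣ orderOf x := ⟨r * l.prod, by rw [← hprod]; ring⟩
  have ho : orderOf (x ^ (orderOf x / (p * q))) = p * q := orderOf_pow_orderOf_div (orderOf_pos x).ne' hd
  have h1 : p * q < orderOf x := by
    have h2 : 2 ≤ r * l.prod := le_trans hr.two_le (Nat.le_mul_of_pos_right r hL1)
    calc p * q < p * q * 2 := by have := Nat.mul_pos hp.pos hq.pos; omega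
      _ ≤ p * q * (r * l.prod) := Nat.mul_le_mul_left _ h2
      _ = orderOf x := by rw [← hprod]; ring
  have hpp : p < p * q := lt_mul_of_one_lt_right hp.pos hq.one_lt
  have := h.eq_of_dvd hp (x := x) (y := x ^ (orderOf x / (p * q))) ((dvd_mul_right p q).trans hd)
    (by rw [ho]; exact dvd_mul_right p q) (by omega) (by omega)
  omega

/-- with an element of order 4 the involution centralisers are 2-groups -/
theorem P3.cit (h : P3 G) {x : G} (hx : orderOf x = 4) : PrimeGraphCIT.CIT G :=
  PrimeGraphCIT.CIT.of_orders fun r hr hr2 ⟨y, hy⟩ => by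
    have := h.eq_of_dvd Nat.prime_two (x := x) (y := y) (by rw [hx]; norm_num) (hy ▸ dvd_mul_right 2 r)
      (by rw [hx]; norm_num) (by rw [hy]; have := hr.two_le; omega)
    omega

/-- without elements of order 4 the 2-elements square to 1 -/
theorem sq_eq_one_of_no_four (h4 : ∀ x : G, orderOf x ≠ 4) {x : G} {k : ℕ} (hx : x ^ 2 ^ k = 1) :
    x ^ 2 = 1 := by
  obtain ⟨j, -, hj⟩ := (Nat.dvd_prime_pow Nat.prime_two).1 (orderOf_dvd_of_pow_eq_one hx)
  refine orderOf_dvd_iff_pow_eq_one.1 ?_
  rcases j with _ | _ | j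
  · rw [hj]; simp
  · rw [hj]; simp
  · exact absurd (orderOf_pow_orderOf_div (n := 4) (orderOf_pos x).ne'
      (hj ▸ ⟨2 ^ j, by ring⟩)) (h4 _)

theorem commute_of_no_four (h4 : ∀ x : G, orderOf x ≠ 4) (S : Subgroup G) (hS : IsPGroup 2 S) {a b : G}
    (ha : a ∈ S) (hb : b ∈ S) : a * b = b * a := by
  have hsq : ∀ c ∈ S, c⁻¹ = c := fun c hc => by
    obtain ⟨k, hk⟩ := hS ⟨c, hc⟩
    have : c ^ 2 = 1 := sq_eq_one_of_no_four h4 (congrArg Subtype.val hk)
    exact inv_eq_of_mul_eq_one_left (by rwa [pow_two] at this)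
  calc a * b = (a * b)⁻¹ := (hsq _ (S.mul_mem ha hb)).symm
    _ = b⁻¹ * a⁻¹ := mul_inv_rev _ _
    _ = b * a := by rw [hsq a ha, hsq b hb]

end Cfsg.Agent.ThreeOrders
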