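import Cfsg.Agent.ThreeOrders.Basic
import Cfsg.Agent.PrimeGraphCIT.Index

/-!
Tools for outer elements above a normal subgroup.
-/

set_option autoImplicit false
set_option linter.style.haveILetI false
set_option linter.unusedSectionVars false

open Subgroup

namespace Cfsg.Agent.ThreeOrders

universe u

variable {H : Type u} [Group H] [Finite H] (T : Subgroup H) [T.Normal]

/-- a supplement of `T` has outer elements of `r`-power order -/
theorem exists_outer (N : Subgroup H) (hN : N ⊔ T = ⊤) {r : ℕ} (hr : r.Prime) (hrd : r ∣ T.index) :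
    ∃ y ∈ N, y ∉ T ∧ ∃ k : ℕ, orderOf y = r ^ (k + 1) := by
  haveI := Fact.mk hr
  rw [PrimeGraphCIT.index_eq_relIndex_of_sup_eq_top hN, Subgroup.relIndex] at hrd
  let R : Sylow r ↥N := default
  have hnot : ¬ (R : Subgroup ↥N) ≤ T.subgroupOf N := fun hle =>
    R.not_dvd_index (hrd.trans (index_dvd_of_le hle))
  obtain ⟨y, hyR, hyT⟩ := SetLike.not_le_iff_exists.1 hnot
  obtain ⟨k, hk⟩ := IsPGroup.iff_orderOf.1 R.2 ⟨y, hyR⟩
  rw [← Subgroup.orderOf_coe, Subgroup.coe_mk, ← Subgroup.orderOf_coe] at hk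
  rw [mem_subgroupOf] at hyT
  rcases k with _ | k
  · rw [pow_zero, orderOf_eq_one_iff] at hk
    exact absurd (hk ▸ T.one_mem) hyT
  · exact ⟨y, y.2, hyT, k, hk⟩

/-- the centraliser of an element whose class is invariant is a supplement -/
theorem centralizer_sup (t : H) (hcls : ∀ g : H, ∃ s ∈ T, s * (g * t * g⁻¹) * s⁻¹ = t) :
    centralizer ({t} : Set H) ⊔ T = ⊤ := by
  rw [eq_top_iff]
  intro g _
  obtain ⟨s, hs, e⟩ := hcls g
  have hc : s * g ∈ centralizer ({t} : Set H) := by
    rw [mem_centralizer_singleton_iff]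
    refine mul_inv_eq_iff_eq_mul.1 ?_
    calc s * g * t * (s * g)⁻¹ = s * (g * t * g⁻¹) * s⁻¹ := by group
      _ = t := e
  rw [show g = s⁻¹ * (s * g) by group]
  exact Subgroup.mul_mem _ (mem_sup_right (T.inv_mem hs)) (mem_sup_left hc)

variable {T}

theorem cls_of_isConj (hconj : ∀ s u : T, orderOf s = 2 → orderOf u = 2 → IsConj s u) {t : H} (htT : t ∈ T)
    (ht : orderOf t = 2) (g : H) : ∃ s ∈ T, s * (g * t * g⁻¹) * s⁻¹ = t := by
  have hm : g * t * g⁻¹ ∈ T := Subgroup.Normal.conj_mem inferInstance t htT g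
  have ho : orderOf (g * t * g⁻¹) = 2 := by
    rw [← ht]; exact (MulAut.conj g).orderOf_eq t
  obtain ⟨c, hc⟩ := isConj_iff.1 (hconj ⟨_, hm⟩ ⟨t, htT⟩ (by rw [Subgroup.orderOf_mk]; exact ho)
    (by rw [Subgroup.orderOf_mk]; exact ht))
  exact ⟨c, c.2, congrArg Subtype.val hc⟩

/-- over one class of involutions, an outer prime gives outer elements centralising a given involution -/
theorem exists_outer_commute (hconj : ∀ s u : T, orderOf s = 2 → orderOf u = 2 → IsConj s u) {t : H}
    (htT : t ∈ T) (ht : orderOf t = 2) {r : ℕ} (hr : r.Prime) (hrd : r ∣ T.index) :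
    ∃ y, y * t = t * y ∧ y ∉ T ∧ ∃ k : ℕ, orderOf y = r ^ (k + 1) := by
  obtain ⟨y, hy, h⟩ := exists_outer T _ (centralizer_sup T t (cls_of_isConj hconj htT ht)) hr hrd
  exact ⟨y, mem_centralizer_singleton_iff.1 hy, h⟩

/-- centraliser orders in a CIT-group -/
theorem index_two_pow (hH : PrimeGraphCIT.CIT H) (hconj : ∀ s u : T, orderOf s = 2 → orderOf u = 2 → IsConj s u)
    {t : H} (htT : t ∈ T) (ht : orderOf t = 2) {r : ℕ} (hr : r.Prime) (hrd : r ∣ T.index) : r = 2 := by
  by_contra hr2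
  obtain ⟨y, hy, -, k, hk⟩ := exists_outer_commute hconj htT ht hr hrd
  have ho : orderOf (y ^ r ^ k) = r := by
    rw [orderOf_pow, hk, Nat.gcd_eq_right (pow_dvd_pow r k.le_succ), pow_succ,
      Nat.mul_div_cancel_left _ (pow_pos hr.pos k)]
  exact hH.no_commute (fun e => by rw [e, orderOf_one] at ht; norm_num at ht)
    ⟨1, by rw [pow_one, ← ht, pow_orderOf_eq_one]⟩ hr hr2 ho ((Commute.pow_left hy _).symm)

/-- a subgroup `H₀` of prime index over `T` -/
theorem exists_index_prime {r : ℕ} (hr : r.Prime) (hrd : r ∣ T.index) :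
    ∃ H₀ : Subgroup H, T ≤ H₀ ∧ (T.subgroupOf H₀).index = r := by
  haveI := Fact.mk hr
  obtain ⟨q, hq⟩ := exists_prime_orderOf_dvd_card' (G := H ⧸ T) r (by rwa [← Subgroup.index_eq_card])
  refine ⟨(zpowers q).comap (QuotientGroup.mk' T), fun x hx => ?_, ?_⟩
  · rw [mem_comap, (QuotientGroup.eq_one_iff x).2 hx |> fun e => (show QuotientGroup.mk' T x = 1 from e)]
    exact one_mem _
  · rw [← Subgroup.relIndex, ← hq, ← Nat.card_zpowers]
    have h := Subgroup.relIndex_ker (K := (zpowers q).comap (QuotientGroup.mk' T)) (QuotientGroup.mk' T)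
    rw [QuotientGroup.ker_mk', map_comap_eq_self_of_surjective (QuotientGroup.mk'_surjective T)] at h
    exact h

/-- The Sylow normaliser argument: a subgroup of prime order whose centraliser has only `p`-elements. -/
theorem aut_full {p m : ℕ} [hp : Fact p.Prime] (P : Sylow p T) (hP : Nat.card P = p)
    (hpH : ¬ p * p ∣ Nat.card H) (hno : ∀ ℓ : ℕ, ℓ.Prime → ℓ ≠ p → ∀ g : H, orderOf g ≠ p * ℓ)
    (hm : Nat.card ↥(normalizer ((P : Subgroup T) : Set T)) = p * m) :
    T.index * m ∣ p - 1 ∧ ∃ g : H, T.index * m ∣ orderOf g := by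
  set Q : Subgroup H := (P : Subgroup T).map T.subtype with hQdef
  have hQc : Nat.card Q = p := by rw [hQdef, card_map_of_injective T.subtype_injective]; exact hP
  haveI : IsCyclic Q := isCyclic_of_prime_card hQc
  haveI : Fact (Nat.card Q).Prime := ⟨hQc ▸ hp.out⟩
  set N := normalizer (Q : Set H) with hNdef
  have hNT : N ⊔ T = ⊤ := Sylow.normalizer_sup_eq_top P
  have hNc : Nat.card N = p * m * T.index := by
    have hmul : Nat.card ↥(T ⊓ N) * T.index = Nat.card N := by
      rw [PrimeGraphCIT.index_eq_relIndex_of_sup_eq_top hNT, ← inf_relIndex_right, ← relIndex_bot_left,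
        ← relIndex_bot_left, relIndex_mul_relIndex _ _ _ bot_le inf_le_right]
    rw [← hmul, PrimeGraphCIT.card_inf_normalizer, hm]
  set φ := normalizerMonoidHom Q with hφ
  have hker : φ.ker = Q.subgroupOf N := by
    refine le_antisymm (fun g hg => ?_) fun g hg => ?_
    · rw [mem_subgroupOf]
      have hgc : (g : H) ∈ centralizer (Q : Set H) := (SetLike.ext_iff.1 (normalizerMonoidHom_ker (H := Q)) g).1 hg
      have hPG : IsPGroup p (centralizer (Q : Set H)) := by
        intro c
        refine ⟨(orderOf c).primeFactorsList.length, orderOf_dvd_iff_pow_eq_one.1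
          (dvd_of_eq (Nat.eq_prime_pow_of_unique_prime_dvd (orderOf_pos c).ne' fun {ℓ} hℓ hℓd => ?_))⟩
        by_contra hℓp
        obtain ⟨u, hu⟩ := exists_prime_orderOf_dvd_card' (G := Q) p (dvd_of_eq hQc.symm)
        have hz : orderOf (((c ^ (orderOf c / ℓ) : centralizer (Q : Set H))) : H) = ℓ := by
          rw [Subgroup.orderOf_coe, orderOf_pow_orderOf_div (orderOf_pos c).ne' hℓd]
        refine hno ℓ hℓ hℓp _ (orderOf_mul_primes hp.out hℓ (Ne.symm hℓp) (by rw [Subgroup.orderOf_coe, hu]) hz ?_)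
        exact mem_centralizer_iff.1 (c ^ (orderOf c / ℓ)).2 _ u.2
      obtain ⟨j, hj⟩ := IsPGroup.iff_card.1 hPG
      have hj1 : j ≤ 1 := by
        by_contra hlt
        refine hpH ((Dvd.intro (p ^ (j - 2)) ?_).trans (hj ▸ card_subgroup_dvd_card _))
        rw [← pow_two, ← pow_add, Nat.add_sub_cancel' (by omega)]
      have hle : Q ≤ centralizer (Q : Set H) := le_centralizer_iff_isMulCommutative.2 inferInstance
      rw [Subgroup.eq_of_le_of_card_ge hle (by
        rw [hj, hQc]; exact (Nat.pow_le_pow_right hp.out.pos hj1).trans (le_of_eq (pow_one p)))]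
      exact hgc
    · rw [mem_subgroupOf] at hg
      exact (SetLike.ext_iff.1 (normalizerMonoidHom_ker (H := Q)) g).2
        (show (g : H) ∈ centralizer (Q : Set H) from
          mem_centralizer_iff.2 fun a ha => congrArg Subtype.val (mul_comm' (⟨a, ha⟩ : Q) ⟨g, hg⟩))
  have hrange : Nat.card φ.range = T.index * m := by
    have := φ.ker.card_mul_index
    rw [index_ker, hker, Nat.card_congr (subgroupOfEquivOfLe (le_normalizer (H := Q))).toEquiv, hQc, hNc] at this
    rw [mul_assoc] at this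
    rw [Nat.eq_of_mul_eq_mul_left hp.out.pos this, mul_comm]
  refine ⟨?_, ?_⟩
  · have := φ.range.card_subgroup_dvd_card
    rwa [hrange, IsCyclic.card_mulAut, hQc, Nat.totient_prime hp.out] at this
  · haveI : IsCyclic (MulAut Q) :=
      isCyclic_of_surjective (IsCyclic.mulAutMulEquiv (G := ↥Q)).symm.toMonoidHom (MulEquiv.surjective _)
    obtain ⟨σ, hσ⟩ := IsCyclic.exists_generator (α := φ.range)
    obtain ⟨g, hg⟩ := σ.2
    refine ⟨g, ?_⟩
    rw [← hrange, ← orderOf_eq_card_of_forall_mem_zpowers hσ, ← Subgroup.orderOf_coe σ, ← hg, Subgroup.orderOf_coe g]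
    exact orderOf_map_dvd φ g

end Cfsg.Agent.ThreeOrders
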