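import Cfsg.Agent.ThreeOrders.Facts
import Cfsg.Agent.ThreeOrders.Tools

/-!
No outer elements over PSL(2,2^f).
-/

set_option autoImplicit false
set_option linter.style.haveILetI false
set_option linter.unusedSectionVars false

open Subgroup
open scoped Pointwise

namespace Cfsg.Agent.ThreeOrders

universe u

variable {H : Type u} [Group H] [Finite H] {T : Subgroup H} [T.Normal] {F : Type*} [Field F] [Fintype F]
  [CharP F 2]

local notation "PG" => Matrix.ProjectiveSpecialLinearGroup (Fin 2) F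

theorem cent_of_equiv (e : T ≃* PG) {t : T} (ht : orderOf t = 2) :
    Nat.card (centralizer ({t} : Set T)) = Fintype.card F ∧
      ∀ a ∈ centralizer ({t} : Set T), ∀ b ∈ centralizer ({t} : Set T), a * b = b * a := by
  obtain ⟨h1, h2⟩ := psl_even_cent (t := e t) (by rw [e.orderOf_eq, ht])
  have hmem : ∀ a : T, a ∈ centralizer ({t} : Set T) ↔ e a ∈ centralizer ({e t} : Set PG) := fun a => by
    rw [mem_centralizer_singleton_iff, mem_centralizer_singleton_iff, ← map_mul, ← map_mul, e.injective.eq_iff]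
  refine ⟨?_, fun a ha b hb => e.injective (by rw [map_mul, map_mul]; exact h2 _ ((hmem a).1 ha) _ ((hmem b).1 hb))⟩
  rw [← h1]
  exact Nat.card_congr (Equiv.subtypeEquiv e.toEquiv fun a => hmem a)

variable [IsSimpleGroup T]

theorem even_no_outer (h : P3 H) (h4 : ∀ x : H, orderOf x ≠ 4) (hC : centralizer (T : Set H) = ⊥)
    (hq4 : 4 ≤ Fintype.card F) (e : T ≃* PG) : T = ⊤ := by
  classical
  haveI : Fact (Nat.Prime 2) := ⟨Nat.prime_two⟩
  set q := Fintype.card F with hqdef
  have hq2 : 2 ∣ q := PrimeGraphCIT.two_dvd_card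
  have hT4 : ∀ x : T, orderOf x ≠ 4 := fun x => by rw [← Subgroup.orderOf_coe]; exact h4 _
  -- Sylow 2-subgroups of `T`
  have hsyl : ∀ P : Sylow 2 T, Nat.card P = q ∧ (normalizer ((P : Subgroup T) : Set T)).index = q + 1 := by
    intro P
    obtain ⟨P', -, h2, h3⟩ := PrimeGraphCIT.sylow_transfer e P
    obtain ⟨-, c2, c3⟩ := PrimeGraphCIT.psl_sylow P'
    refine ⟨h2 ▸ c2, ?_⟩
    have hmul := (normalizer ((P : Subgroup T) : Set T)).card_mul_index
    rw [← h3, c3, Nat.card_congr e.toEquiv, PrimeGraphCIT.card_psl_even, ← hqdef, ← mul_assoc] at hmul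
    exact Nat.eq_of_mul_eq_mul_left (Nat.mul_pos (by omega) (by omega)) hmul
  have hord2 : ∀ (P : Sylow 2 T) (u : T), u ∈ (P : Subgroup T) → u ≠ 1 → orderOf u = 2 := by
    intro P u hu hu1
    obtain ⟨k, hk⟩ := P.2 ⟨u, hu⟩
    exact ((Nat.dvd_prime Nat.prime_two).1 (orderOf_dvd_of_pow_eq_one
      (sq_eq_one_of_no_four hT4 (congrArg Subtype.val hk)))).resolve_left fun e' => hu1 (orderOf_eq_one_iff.1 e')
  have hsylC : ∀ (P : Sylow 2 T) (u : T), u ∈ (P : Subgroup T) → u ≠ 1 → (P : Subgroup T) = centralizer ({u} : Set T) := by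
    intro P u hu hu1
    refine Subgroup.eq_of_le_of_card_ge (fun a ha => mem_centralizer_singleton_iff.2
      (commute_of_no_four hT4 _ P.2 ha hu)) (le_of_eq ?_)
    exact ((cent_of_equiv e (hord2 P u hu hu1)).1).trans (hsyl P).1.symm
  letI act : MulAction H (Sylow 2 T) := MulAction.compHom (Sylow 2 T) (MulAut.conjNormal : H →* MulAut ↥T)
  have hsmul : ∀ (g : H) (P : Sylow 2 T) (a : T),
      MulAut.conjNormal g a ∈ ((g • P : Sylow 2 T) : Subgroup T) ↔ a ∈ (P : Subgroup T) := by
    intro g P a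
    show (MulAut.conjNormal g : MulAut T) • a ∈ (MulAut.conjNormal g : MulAut T) • (P : Subgroup T) ↔ _
    exact Subgroup.smul_mem_pointwise_smul_iff
  have hfix : ∀ (g : H) (P : Sylow 2 T) (u : T), u ∈ (P : Subgroup T) → u ≠ 1 → g * u = u * g → g • P = P := by
    intro g P u hu hu1 hc
    have e' : MulAut.conjNormal g u = u := Subtype.ext (by
      rw [MulAut.conjNormal_apply, hc, mul_inv_cancel_right])
    have hm := (hsmul g P u).2 hu
    rw [e'] at hm
    exact Sylow.ext ((hsylC _ u hm hu1).trans (hsylC P u hu hu1).symm)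
  -- the action of a Sylow subgroup on the other ones
  have hreg : ∀ P Q : Sylow 2 T, Q ≠ P → ∀ s ∈ (P : Subgroup T), (s : H) • Q = Q → s = 1 := by
    intro P Q hQP s hs hsQ
    by_contra hs1
    obtain ⟨v, hv, hv1⟩ : ∃ v ∈ (Q : Subgroup T), v ≠ 1 := by
      refine ((Q : Subgroup T).bot_or_exists_ne_one).resolve_left fun hb => ?_
      have := (hsyl Q).1
      rw [show Nat.card Q = Nat.card (Q : Subgroup T) from rfl, hb, Subgroup.card_bot] at this
      omega
    have hsN : s ∈ normalizer ((Q : Subgroup T) : Set T) := by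
      rw [mem_normalizer_iff]
      intro a
      rw [← hsmul (s : H) Q a, hsQ]
      exact iff_of_eq (congrArg (· ∈ (Q : Subgroup T)) (Subtype.ext (MulAut.conjNormal_apply _ _).symm)).symm
    have hsQ' : s ∈ (Q : Subgroup T) := by
      have hzp : IsPGroup 2 (zpowers s) := P.2.to_le (zpowers_le.2 hs)
      have := (IsPGroup.inf_normalizer_sylow hzp Q).le ⟨mem_zpowers s, hsN⟩
      exact this.2
    exact hQP (Sylow.ext ((hsylC Q s hsQ' hs1).trans (hsylC P s hs hs1).symm))
  have hreg_surj : ∀ P Q R : Sylow 2 T, Q ≠ P → R ≠ P → ∃ s ∈ (P : Subgroup T), (s : H) • Q = R := by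
    intro P Q R hQP hRP
    let f : ↥(P : Subgroup T) → {R : Sylow 2 T // R ≠ P} := fun s => ⟨((s : T) : H) • Q, fun e' => hQP (by
      have h1 : ((s : T) : H)⁻¹ • P = P := by
        rcases eq_or_ne (s : T) 1 with h0 | h0
        · rw [h0, OneMemClass.coe_one, inv_one, one_smul]
        · refine hfix _ P _ s.2 h0 ?_
          rw [inv_mul_cancel, mul_inv_cancel]
      exact ((inv_smul_eq_iff.2 e'.symm).symm.trans h1))⟩
    have hinj : Function.Injective f := by
      intro a b hab
      have hab' : ((a : T) : H) • Q = ((b : T) : H) • Q := congrArg Subtype.val hab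
      have := hreg P Q hQP _ ((P : Subgroup T).mul_mem ((P : Subgroup T).inv_mem b.2) a.2) (by
        rw [Subgroup.coe_mul, Subgroup.coe_inv, mul_smul, hab', inv_smul_smul])
      exact Subtype.ext (inv_mul_eq_one.1 this).symm
    have hcard : Nat.card {R : Sylow 2 T // R ≠ P} ≤ Nat.card (P : Subgroup T) := by
      have h1 : Nat.card (Sylow 2 T) = q + 1 := P.card_eq_index_normalizer.trans (hsyl P).2
      have := Fintype.ofFinite (Sylow 2 T)
      rw [show Nat.card (P : Subgroup T) = q from (hsyl P).1, Nat.card_eq_fintype_card, Fintype.card_subtype_compl,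
        Fintype.card_subtype_eq, ← Nat.card_eq_fintype_card, h1]
      omega
    obtain ⟨s, hs⟩ := (hinj.bijective_of_nat_card_le hcard).2 ⟨R, hRP⟩
    exact ⟨s, s.2, congrArg Subtype.val hs⟩
  -- an element centralising a Sylow subgroup and fixing another one is trivial
  have hkey : ∀ (P Q : Sylow 2 T), Q ≠ P → ∀ y : H, (∀ a ∈ (P : Subgroup T), y * a = a * y) → y • Q = Q → y = 1 := by
    intro P Q hQP y hy hyQ
    have hall : ∀ R : Sylow 2 T, y • R = R := by
      intro R
      rcases eq_or_ne R P with rfl | hRP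
      · obtain ⟨v, hv, hv1⟩ : ∃ v ∈ (R : Subgroup T), v ≠ 1 := by
          refine ((R : Subgroup T).bot_or_exists_ne_one).resolve_left fun hb => ?_
          have := (hsyl R).1
          rw [show Nat.card R = Nat.card (R : Subgroup T) from rfl, hb, Subgroup.card_bot] at this
          omega
        exact hfix y R v hv hv1 (hy v hv)
      · obtain ⟨s, hs, rfl⟩ := hreg_surj P Q R hQP hRP
        rw [← mul_smul, hy s hs, mul_smul, hyQ]
    set K : Subgroup H := (MulAction.toPermHom H (Sylow 2 T)).ker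
    have hK : ∀ g, g ∈ K ↔ ∀ R : Sylow 2 T, g • R = R := fun g => by
      rw [MonoidHom.mem_ker, Equiv.ext_iff]; rfl
    have hKT : K.subgroupOf T = ⊥ := by
      refine (IsSimpleGroup.eq_bot_or_eq_top_of_normal _ inferInstance).resolve_right fun htop => ?_
      obtain ⟨v, hv, hv1⟩ : ∃ v ∈ (P : Subgroup T), v ≠ 1 := by
        refine ((P : Subgroup T).bot_or_exists_ne_one).resolve_left fun hb => ?_
        have := (hsyl P).1
        rw [show Nat.card P = Nat.card (P : Subgroup T) from rfl, hb, Subgroup.card_bot] at this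
        omega
      exact hv1 (hreg P Q hQP v hv ((hK _).1 (mem_subgroupOf.1 (htop.symm ▸ mem_top v)) Q))
    have hyK : y ∈ K := (hK y).2 hall
    rw [← mem_bot, ← hC, mem_centralizer_iff]
    intro a ha
    have hmem : y * a * y⁻¹ * a⁻¹ ∈ K := by
      have := K.mul_mem hyK ((inferInstance : K.Normal).conj_mem _ (K.inv_mem hyK) a)
      simpa [mul_assoc] using this
    have hmemT : y * a * y⁻¹ * a⁻¹ ∈ T := T.mul_mem (Subgroup.Normal.conj_mem inferInstance a ha y) (T.inv_mem ha)
    have h1 : (⟨_, hmemT⟩ : T) = 1 := by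
      rw [← mem_bot, ← hKT]
      exact mem_subgroupOf.2 hmem
    exact (mul_inv_eq_iff_eq_mul.1 (mul_inv_eq_one.1 (congrArg Subtype.val h1))).symm
  have hconj : ∀ s u : T, orderOf s = 2 → orderOf u = 2 → IsConj s u := fun s u hs hu => by
    simpa using MonoidHom.map_isConj e.symm.toMonoidHom (psl_two_conj (e s) (e u) (by rw [e.orderOf_eq, hs])
      (by rw [e.orderOf_eq, hu]))
  have hTeven : 2 ∣ Nat.card T := by
    rw [Nat.card_congr e.toEquiv, PrimeGraphCIT.card_psl_even]; exact hq2.mul_right _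
  obtain ⟨t, ht⟩ := exists_prime_orderOf_dvd_card' (G := T) 2 hTeven
  have ht' : orderOf (t : H) = 2 := by rw [Subgroup.orderOf_coe, ht]
  have ht1 : t ≠ 1 := fun e' => by rw [e', orderOf_one] at ht; norm_num at ht
  obtain ⟨P, hP⟩ := (IsPGroup.of_card (p := 2) (G := zpowers t) (n := 1)
    (by rw [Nat.card_zpowers, ht, pow_one])).exists_le_sylow
  have htP : t ∈ (P : Subgroup T) := hP (mem_zpowers t)
  by_contra hne
  obtain ⟨r, hr, hrd⟩ := Nat.exists_prime_and_dvd (fun e' => hne (index_eq_one.1 e'))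
  haveI := Fact.mk hr
  obtain ⟨Q, hQP⟩ : ∃ Q : Sylow 2 T, Q ≠ P := by
    by_contra! hall
    have : Nat.card (Sylow 2 T) ≤ 1 := Finite.card_le_one_iff_subsingleton.2 ⟨fun a b => (hall a).trans (hall b).symm⟩
    rw [P.card_eq_index_normalizer.trans (hsyl P).2] at this
    omega
  rcases eq_or_ne r 2 with rfl | hr2
  · obtain ⟨y, hyN, hyT, k, hk⟩ := exists_outer T (normalizer (((P : Subgroup T).map T.subtype) : Set H))
      (Sylow.normalizer_sup_eq_top P) hr hrd
    have hyP : ∀ a ∈ (P : Subgroup T), y * a = a * y := fun a ha => commute_of_no_four h4 _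
      (IsPGroup.to_sup_of_normal_right' (IsPGroup.of_card (p := 2) (G := zpowers y) (n := k + 1)
          (by rw [Nat.card_zpowers, hk]))
        (P.2.map T.subtype) (zpowers_le.2 hyN))
      (mem_sup_left (mem_zpowers y)) (mem_sup_right (mem_map_of_mem T.subtype ha))
    have hyQ : y • Q ≠ P := fun e' => hQP (smul_left_cancel y (e'.trans (hfix y P t htP ht1 (hyP t htP)).symm))
    obtain ⟨s, hs, e'⟩ := hreg_surj P Q (y • Q) hQP hyQ
    have h1 := hkey P Q hQP ((s : H)⁻¹ * y) (fun a ha => by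
      have hsa : (s : H) * a = a * s := congrArg Subtype.val (commute_of_no_four hT4 _ P.2 hs ha)
      rw [mul_assoc, hyP a ha, ← mul_assoc, ← (Commute.inv_right (show Commute (a : H) s from hsa.symm)).eq,
        mul_assoc]) (by rw [mul_smul, ← e', inv_smul_smul])
    exact hyT (by rw [← inv_mul_eq_one.1 h1]; exact s.2)
  obtain ⟨y, hyt, hyT, k, hk⟩ := exists_outer_commute hconj t.2 ht' hr hrd
  -- the orders divisible by r
  have hk0 : k = 0 := by
    have hc : Commute y (t : H) := hyt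
    have hyr : orderOf (y ^ r ^ k) = r := by
      rw [orderOf_pow, hk, Nat.gcd_eq_right (pow_dvd_pow r k.le_succ), pow_succ,
        Nat.mul_div_cancel_left _ (pow_pos hr.pos k)]
    have h1 := orderOf_mul_primes hr Nat.prime_two hr2 hyr ht' (hc.pow_left _)
    have h2 : orderOf (y * t) = r ^ (k + 1) * 2 := by
      rw [hc.orderOf_mul_eq_mul_orderOf_of_coprime (by
        rw [hk, ht']; exact Nat.Coprime.pow_left _ ((Nat.coprime_primes hr Nat.prime_two).2 hr2)), hk, ht']
    have := h.eq_of_dvd hr (x := y ^ r ^ k * t) (y := y * t) (h1 ▸ dvd_mul_right r 2)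
      (h2 ▸ (dvd_pow_self r k.succ_ne_zero).mul_right 2) (by rw [h1]; have := hr.pos; omega)
      (by rw [h2]; have : r ≤ r ^ (k + 1) := Nat.le_self_pow (Nat.succ_ne_zero k) r; have := hr.pos; omega)
    rw [h1, h2] at this
    have := Nat.pow_right_injective hr.two_le ((Nat.eq_of_mul_eq_mul_right two_pos this).symm.trans (pow_one r).symm)
    omega
  subst hk0
  rw [zero_add, pow_one] at hk
  have h2r : ∃ x : H, orderOf x = r * 2 := ⟨_, orderOf_mul_primes hr Nat.prime_two hr2 hk ht' hyt⟩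
  have hodd_r : ∀ x : H, r ∣ orderOf x → ¬ 2 ∣ orderOf x → orderOf x = r := fun x hx hx2 => by
    by_contra hne'
    obtain ⟨z, hz⟩ := h2r
    have := h.eq_of_dvd hr (x := x) (y := z) hx (hz ▸ dvd_mul_right r 2) hne' (by rw [hz]; have := hr.pos; omega)
    exact hx2 (this ▸ hz ▸ dvd_mul_left 2 r)
  have hpartner : ∀ (g : H), g * y = y * g → ∀ ℓ : ℕ, ℓ.Prime → ℓ ≠ 2 → ℓ ∣ orderOf g → ℓ = r := by
    intro g hg ℓ hℓ hℓ2 hd
    by_contra hne'
    exact h.not_two_partners hr Nat.prime_two hℓ hr2 (Ne.symm hne') (Ne.symm hℓ2) h2r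
      ⟨_, orderOf_mul_primes hr hℓ (Ne.symm hne') hk (orderOf_pow_orderOf_div (orderOf_pos g).ne' hd)
        ((show Commute g y from hg).pow_left _).symm⟩
  have hyP : y • P = P := hfix y P t htP ht1 hyt
  have hrq : ¬ r ∣ q := by
    obtain ⟨f, -, hf⟩ := FiniteField.card F 2
    rw [hqdef, hf]
    exact fun hd => hr2 ((Nat.prime_dvd_prime_iff_eq hr Nat.prime_two).1 (hr.dvd_of_dvd_pow hd))
  have hpg : IsPGroup r (zpowers y) := IsPGroup.of_card (n := 1) (by rw [Nat.card_zpowers, hk, pow_one])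
  -- y fixes another Sylow subgroup
  obtain ⟨Q, hQP, hyQ⟩ : ∃ Q : Sylow 2 T, Q ≠ P ∧ y • Q = Q := by
    by_contra! hall
    have hfp : MulAction.fixedPoints (zpowers y) (Sylow 2 T) = {P} := by
      ext R
      rw [Set.mem_singleton_iff, MulAction.mem_fixedPoints]
      constructor
      · intro hR
        by_contra hRP
        exact hall R hRP (hR ⟨y, mem_zpowers y⟩)
      · rintro rfl ⟨g, hg⟩
        obtain ⟨i, rfl⟩ := mem_zpowers_iff.1 hg
        exact MulAction.mem_stabilizer_iff.1 ((MulAction.stabilizer H R).zpow_mem (MulAction.mem_stabilizer_iff.2 hyP) i)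
    have hmod := hpg.card_modEq_card_fixedPoints (Sylow 2 T)
    rw [hfp, P.card_eq_index_normalizer.trans (hsyl P).2, Nat.card_coe_set_eq, Set.ncard_singleton] at hmod
    exact hrq (Nat.modEq_zero_iff_dvd.1 (Nat.ModEq.add_right_cancel' 1 hmod))
  set C : Subgroup T := ((MulAction.stabilizer H P) ⊓ (MulAction.stabilizer H Q)).subgroupOf T with hCdef
  have hCmem : ∀ c : T, c ∈ C ↔ (c : H) • P = P ∧ (c : H) • Q = Q := fun c => by
    rw [hCdef, mem_subgroupOf, mem_inf, MulAction.mem_stabilizer_iff, MulAction.mem_stabilizer_iff]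
  -- C is regular on the involutions of P
  let f : C → {u : (P : Subgroup T) // u ≠ 1} := fun c =>
    ⟨⟨MulAut.conjNormal ((c : T) : H) t, by
        have hm := (hsmul ((c : T) : H) P t).2 htP
        rwa [((hCmem c).1 c.2).1] at hm⟩, fun e' => ht1 (by
        have := congrArg (fun z : (P : Subgroup T) => (z : T)) e'
        exact (map_eq_one_iff _ (MulEquiv.injective _)).1 this)⟩
  have hf : Function.Bijective f := by
    constructor
    · intro a b hab
      have hab' : MulAut.conjNormal ((a : T) : H) t = MulAut.conjNormal ((b : T) : H) t :=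
        congrArg (fun z => ((z.1 : (P : Subgroup T)) : T)) hab
      have hm : (b : T)⁻¹ * (a : T) ∈ (P : Subgroup T) := by
        rw [hsylC P t htP ht1, mem_centralizer_singleton_iff]
        refine Subtype.ext ?_
        have := congrArg Subtype.val hab'
        rw [MulAut.conjNormal_apply, MulAut.conjNormal_apply] at this
        rw [Subgroup.coe_mul, Subgroup.coe_mul, Subgroup.coe_mul, Subgroup.coe_inv]
        calc ((b : T) : H)⁻¹ * (a : T) * t = ((b : T) : H)⁻¹ * (((a : T) : H) * t * ((a : T) : H)⁻¹) * (a : T) := by group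
          _ = t * (((b : T) : H)⁻¹ * (a : T)) := by rw [this]; group
      have := hreg P Q hQP _ hm ((hCmem _).1 (C.mul_mem (C.inv_mem b.2) a.2)).2
      exact Subtype.ext (inv_mul_eq_one.1 this).symm
    · rintro ⟨⟨v, hv⟩, hv1⟩
      have hv1' : v ≠ 1 := fun e' => hv1 (Subtype.ext e')
      obtain ⟨g, hg⟩ := isConj_iff.1 (hconj t v ht (hord2 P v hv hv1'))
      have hgt : MulAut.conjNormal (g : H) t = v := Subtype.ext (by
        rw [MulAut.conjNormal_apply, ← hg]; rfl)
      have hgP : (g : H) • P = P := by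
        have hm := (hsmul (g : H) P t).2 htP
        rw [hgt] at hm
        exact Sylow.ext ((hsylC _ v hm hv1').trans (hsylC P v hv hv1').symm)
      have hgQ : (g : H)⁻¹ • Q ≠ P := fun e' => hQP ((inv_smul_eq_iff.1 e').trans hgP)
      obtain ⟨s, hs, hsQ⟩ := hreg_surj P Q _ hQP hgQ
      have hst : (s : H) * t = t * s := congrArg Subtype.val (commute_of_no_four hT4 _ P.2 hs htP)
      refine ⟨⟨g * s, (hCmem _).2 ⟨?_, ?_⟩⟩, ?_⟩
      · rw [Subgroup.coe_mul, mul_smul, hfix (s : H) P t htP ht1 hst, hgP]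
      · rw [Subgroup.coe_mul, mul_smul, hsQ, smul_inv_smul]
      · refine Subtype.ext (Subtype.ext ?_)
        show MulAut.conjNormal ((g * s : T) : H) t = v
        rw [Subgroup.coe_mul, map_mul, MulAut.mul_apply, ← hgt]
        congr 1
        exact Subtype.ext (by rw [MulAut.conjNormal_apply, hst, mul_inv_cancel_right])
  have hCcard : Nat.card C = q - 1 := by
    have := Fintype.ofFinite (P : Subgroup T)
    rw [Nat.card_congr (Equiv.ofBijective f hf), Nat.card_eq_fintype_card, Fintype.card_subtype_compl,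
      Fintype.card_subtype_eq, ← Nat.card_eq_fintype_card, show Nat.card (P : Subgroup T) = q from (hsyl P).1]
  obtain ⟨⟨xq, hxq⟩, ⟨yq, hyq⟩⟩ := CITSolv.exists_torus (F := F) hq4
  rw [PrimeGraphCIT.gcd_two_eq_one hq2, Nat.div_one, ← hqdef, ← e.symm.orderOf_eq, ← Subgroup.orderOf_coe] at hxq hyq
  obtain ⟨j, hj⟩ := hq2
  by_cases hcase : ∃ c ∈ C, c ≠ 1 ∧ y * c = c * y
  · obtain ⟨c, hc, hc1, hcy⟩ := hcase
    have hcd : orderOf c ∣ q - 1 := hCcard ▸ Subgroup.orderOf_dvd_natCard C hc
    obtain ⟨ℓ, hℓ, hℓd⟩ := Nat.exists_prime_and_dvd (fun e' => hc1 (orderOf_eq_one_iff.1 e') : orderOf c ≠ 1)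
    have hℓ2 : ℓ ≠ 2 := fun e' => by
      obtain ⟨i, hi⟩ := (e' ▸ hℓd).trans hcd
      omega
    obtain rfl := hpartner c hcy.symm ℓ hℓ hℓ2 (by rwa [Subgroup.orderOf_coe])
    have hqr : q - 1 = ℓ := by
      rw [← hxq]
      exact hodd_r _ (hxq ▸ hℓd.trans hcd) (fun h2 => by obtain ⟨i, hi⟩ := hxq ▸ h2; omega)
    have hgen : ∀ d ∈ C, y * d = d * y := by
      have htop : zpowers c = C := Subgroup.eq_of_le_of_card_ge (zpowers_le.2 hc) (by
        rw [hCcard, Nat.card_zpowers]
        exact le_of_eq ((Nat.dvd_prime hℓ).1 (hqr ▸ hcd) |>.resolve_left (fun e' => hc1 (orderOf_eq_one_iff.1 e'))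
          |>.trans hqr.symm).symm)
      intro d hd
      obtain ⟨i, rfl⟩ := mem_zpowers_iff.1 (htop.symm ▸ hd)
      rw [Subgroup.coe_zpow]
      exact ((show Commute y (c : H) from hcy).zpow_right i).eq
    refine hyT (?_ : y ∈ T)
    rw [hkey P Q hQP y (fun a ha => ?_) hyQ]
    · exact T.one_mem
    rcases eq_or_ne a 1 with rfl | ha1
    · rw [OneMemClass.coe_one, mul_one, one_mul]
    obtain ⟨d, hd⟩ := hf.2 ⟨⟨a, ha⟩, fun e' => ha1 (congrArg Subtype.val e')⟩
    have hd' : MulAut.conjNormal ((d : T) : H) t = a := congrArg (fun z => ((z.1 : (P : Subgroup T)) : T)) hd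
    rw [← hd', MulAut.conjNormal_apply]
    exact (((show Commute y ((d : T) : H) from hgen d d.2).mul_right hyt).mul_right
      (show Commute y ((d : T) : H) from hgen d d.2).inv_right).eq
  push Not at hcase
  -- conjugation by y on C and on Q
  have hyC : ∀ c ∈ C, MulAut.conjNormal y c ∈ C := fun c hc => (hCmem _).2 (by
    rw [MulAut.conjNormal_apply, mul_smul, mul_smul, mul_smul, mul_smul, inv_smul_eq_iff.2 hyP.symm,
      inv_smul_eq_iff.2 hyQ.symm, ((hCmem c).1 hc).1, ((hCmem c).1 hc).2, hyP, hyQ]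
    exact ⟨rfl, rfl⟩)
  have count : ∀ (K : Subgroup T), (∀ k ∈ K, MulAut.conjNormal y k ∈ K) →
      ∃ d : ℕ, Nat.card K ≡ d [MOD r] ∧ d = Nat.card {k : K // MulAut.conjNormal y (k : T) = k} := by
    intro K hK
    have hKall : ∀ g ∈ zpowers y, ∀ k ∈ K, MulAut.conjNormal g k ∈ K := by
      intro g hg
      obtain ⟨i, rfl⟩ : ∃ i : ℕ, y ^ i = g :=
        Submonoid.mem_powers_iff _ _ |>.1 ((isOfFinOrder_of_finite y).mem_powers_iff_mem_zpowers.2 hg)
      induction i with
      | zero => intro k hk; simpa using hk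
      | succ i ih =>
        intro k hk
        rw [pow_succ', map_mul, MulAut.mul_apply]
        exact hK _ (ih (pow_mem (mem_zpowers y) i) k hk)
    letI : MulAction (zpowers y) K :=
      { smul := fun g k => ⟨MulAut.conjNormal (g : H) (k : T), hKall g g.2 k k.2⟩
        one_smul := fun k => Subtype.ext (show MulAut.conjNormal ((1 : zpowers y) : H) (k : T) = k by
          rw [OneMemClass.coe_one, map_one]; rfl)
        mul_smul := fun a b k => Subtype.ext (show MulAut.conjNormal ((a * b : zpowers y) : H) (k : T) =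
            MulAut.conjNormal (a : H) (MulAut.conjNormal (b : H) (k : T)) by
          rw [Subgroup.coe_mul, map_mul]; rfl) }
    refine ⟨_, hpg.card_modEq_card_fixedPoints K, Nat.card_congr (Equiv.subtypeEquivRight fun k => ?_)⟩
    constructor
    · intro hk
      exact congrArg Subtype.val (hk ⟨y, mem_zpowers y⟩)
    · intro hk g
      obtain ⟨g, hg⟩ := g
      obtain ⟨i, rfl⟩ := mem_zpowers_iff.1 hg
      have h1 : (⟨y, mem_zpowers y⟩ : zpowers y) • k = k := Subtype.ext hk
      have h2 : (⟨y, mem_zpowers y⟩ : zpowers y) ^ i ∈ MulAction.stabilizer (zpowers y) k :=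
        Subgroup.zpow_mem _ (MulAction.mem_stabilizer_iff.2 h1) i
      convert MulAction.mem_stabilizer_iff.1 h2 using 2
      exact Subtype.ext (by rw [Subgroup.coe_zpow])
  obtain ⟨d₁, hd₁, hd₁'⟩ := count C hyC
  have hd1 : d₁ = 1 := by
    rw [hd₁', Nat.card_eq_one_iff_unique]
    refine ⟨⟨fun a b => ?_⟩, ⟨⟨1, map_one _⟩⟩⟩
    have : ∀ z : {k : C // MulAut.conjNormal y (k : T) = k}, ((z.1 : C) : T) = 1 := fun z => by
      by_contra hz1
      refine hcase _ z.1.2 hz1 ?_
      have := congrArg Subtype.val z.2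
      rw [MulAut.conjNormal_apply] at this
      exact mul_inv_eq_iff_eq_mul.1 this
    exact Subtype.ext (Subtype.ext ((this a).trans (this b).symm))
  obtain ⟨d₂, hd₂, hd₂'⟩ := count (Q : Subgroup T) (fun k hk => by
    have := (hsmul y Q k).2 hk
    rwa [hyQ] at this)
  rw [hCcard, hd1] at hd₁
  rw [show Nat.card (Q : Subgroup T) = q from (hsyl Q).1] at hd₂
  have hq12 : q ≡ 2 [MOD r] := by
    have := hd₁.add_right 1
    rwa [Nat.sub_add_cancel (by omega)] at this
  obtain ⟨v, hvQ, hv1, hvy⟩ : ∃ v ∈ (Q : Subgroup T), v ≠ 1 ∧ y * v = v * y := by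
    by_contra hnone
    push Not at hnone
    have hd2 : d₂ = 1 := by
      rw [hd₂', Nat.card_eq_one_iff_unique]
      refine ⟨⟨fun a b => ?_⟩, ⟨⟨1, map_one _⟩⟩⟩
      have : ∀ z : {k : (Q : Subgroup T) // MulAut.conjNormal y (k : T) = k}, ((z.1 : (Q : Subgroup T)) : T) = 1 :=
        fun z => by
        by_contra hz1
        refine hnone _ z.1.2 hz1 ?_
        have := congrArg Subtype.val z.2
        rw [MulAut.conjNormal_apply] at this
        exact mul_inv_eq_iff_eq_mul.1 this
      exact Subtype.ext (Subtype.ext ((this a).trans (this b).symm))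
    rw [hd2] at hd₂
    have h21 : (2 : ℕ) ≡ 1 [MOD r] := hq12.symm.trans hd₂
    have := (Nat.modEq_iff_dvd' (by norm_num : 1 ≤ 2)).1 h21.symm
    exact hr.ne_one (Nat.dvd_one.1 this)
  -- t v has order r
  have hzc : ((t * v : T) : H) * y = y * ((t * v : T) : H) := by
    rw [Subgroup.coe_mul]
    exact ((show Commute y (t : H) from hyt).mul_right hvy).symm.eq
  have hz1 : (t * v) ^ 2 ≠ 1 := by
    intro e'
    have hc : t * v = v * t := by
      have ht2 : t⁻¹ = t := inv_eq_of_mul_eq_one_left (by rw [← pow_two, ← ht, pow_orderOf_eq_one])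
      have hv2 : v⁻¹ = v := inv_eq_of_mul_eq_one_left (by
        rw [← pow_two, ← hord2 Q v hvQ hv1, pow_orderOf_eq_one])
      calc t * v = (t * v)⁻¹ := (inv_eq_of_mul_eq_one_left (by rwa [← pow_two])).symm
        _ = v⁻¹ * t⁻¹ := mul_inv_rev _ _
        _ = v * t := by rw [ht2, hv2]
    have hvP : v ∈ (P : Subgroup T) := by
      rw [hsylC P t htP ht1, mem_centralizer_singleton_iff]; exact hc.symm
    exact hQP (Sylow.ext ((hsylC Q v hvQ hv1).trans (hsylC P v hvP hv1).symm))
  obtain ⟨ℓ, hℓ, hℓ2, hℓd⟩ : ∃ ℓ : ℕ, ℓ.Prime ∧ ℓ ≠ 2 ∧ ℓ ∣ orderOf (t * v) := by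
    by_contra hnone
    push Not at hnone
    obtain ⟨i, hi⟩ : ∃ i, orderOf (t * v) = 2 ^ i := ⟨_, Nat.eq_prime_pow_of_unique_prime_dvd (orderOf_pos _).ne'
      fun {ℓ} hℓ hd => not_not.1 fun hne' => hnone ℓ hℓ hne' hd⟩
    exact hz1 (sq_eq_one_of_no_four hT4 (by rw [← hi, pow_orderOf_eq_one]))
  obtain rfl := hpartner _ hzc ℓ hℓ hℓ2 (by rwa [Subgroup.orderOf_coe])
  have hlast : ℓ ∣ q - 1 ∨ ℓ ∣ q + 1 := by
    rcases PrimeGraphCIT.psl_order_cases (F := F) (e (t * v)) with hd | hd | hd <;> rw [e.orderOf_eq] at hd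
    · exact absurd ((Nat.prime_dvd_prime_iff_eq hℓ Nat.prime_two).1 (hℓd.trans hd)) hℓ2
    · exact Or.inl (hℓd.trans hd)
    · exact Or.inr (hℓd.trans hd)
  have h2q : ℓ ∣ q - 2 := (Nat.modEq_iff_dvd' (by omega)).1 hq12.symm
  rcases hlast with hd | hd
  · have := Nat.dvd_sub hd h2q
    rw [show q - 1 - (q - 2) = 1 by omega] at this
    exact hℓ.ne_one (Nat.dvd_one.1 this)
  · have := Nat.dvd_sub hd h2q
    rw [show q + 1 - (q - 2) = 3 by omega] at this
    have h3 := (Nat.prime_dvd_prime_iff_eq hℓ Nat.prime_three).1 this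
    have : orderOf ((e.symm yq : T) : H) = ℓ := hodd_r _ (hyq ▸ hd) (fun h2 => by
      obtain ⟨i, hi⟩ := hyq ▸ h2; omega)
    omega

end Cfsg.Agent.ThreeOrders
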