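import Cfsg.Agent.Classical.Dickson2.Partition
import Cfsg.Agent.Classical.Dickson2.Dihedral
import Cfsg.Agent.Classical.SquareZero
import Cfsg.Agent.PrimeGraphCIT.Cases
import Cfsg.Agent.CITSolv.L27

/-!
Facts about the groups of the list: involutions, their centralisers, Borel subgroups.
-/

set_option autoImplicit false
set_option linter.style.haveILetI false
set_option linter.unusedSectionVars false

open Matrix Cfsg.Agent.SL2Class Cfsg.Agent.Classical Cfsg.Agent.Classical.Dickson2

namespace Cfsg.Agent.ThreeOrders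

variable {F : Type*} [Field F] [Fintype F]

local notation "PG" => Matrix.ProjectiveSpecialLinearGroup (Fin 2) F
local notation "SG" => Matrix.SpecialLinearGroup (Fin 2) F
local notation:1024 "↥ₘ" A:1024 => ((A : Matrix.SpecialLinearGroup (Fin 2) F) : Matrix (Fin 2) (Fin 2) F)

theorem psl_two_trace {g : SG} (hg : NonScalar g) (h : proj g ^ 2 = 1) : tr g = 0 := by
  rw [← map_pow, proj_eq_one, mem_center_cases] at h
  have h2 : lin g (-1) (tr g) = ↥ₘ(g ^ 2) := by
    rw [pow_two, Matrix.SpecialLinearGroup.coe_mul, g_sq]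
  rcases h with h | h <;> rw [h] at h2
  · rw [Matrix.SpecialLinearGroup.coe_one, ← lin_one g] at h2
    exact (lin_ext hg h2).2
  · rw [coe_neg_one, show (-1 : Matrix (Fin 2) (Fin 2) F) = lin g (-1) 0 by ext i j; simp [lin_apply]] at h2
    exact (lin_ext hg h2).2

theorem psl_two_conj (s u : PG) (hs : orderOf s = 2) (hu : orderOf u = 2) : IsConj s u := by
  obtain ⟨g, rfl⟩ := proj_surjective s
  obtain ⟨k, rfl⟩ := proj_surjective u
  have hg : proj g ≠ 1 := fun e => by rw [e, orderOf_one] at hs; norm_num at hs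
  have hk : proj k ≠ 1 := fun e => by rw [e, orderOf_one] at hu; norm_num at hu
  have tg := psl_two_trace (nonScalar_of_proj_ne hg) (orderOf_dvd_iff_pow_eq_one.1 (dvd_of_eq hs))
  have tk := psl_two_trace (nonScalar_of_proj_ne hk) (orderOf_dvd_iff_pow_eq_one.1 (dvd_of_eq hu))
  refine MonoidHom.map_isConj proj (isConj_of_tr (nonScalar_of_proj_ne hg) (nonScalar_of_proj_ne hk)
    (tg.trans tk.symm) ?_)
  by_cases h2 : (2 : F) = 0
  · exact Or.inr h2
  · exact Or.inl (by rw [tg, mul_zero]; exact fun e => mul_ne_zero h2 h2 (by linear_combination -e))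

/-- an odd element centralising a four group is trivial -/
theorem psl_odd_four (hodd : Fintype.card F % 2 = 1) {t b g : PG} (ht : orderOf t = 2) (hb : orderOf b = 2)
    (htb : t * b = b * t) (hne : t ≠ b) (hg : Odd (orderOf g)) (hgt : g * t = t * g) (hgb : g * b = b * g) :
    g = 1 := by
  obtain ⟨p, hpc⟩ := CharP.exists F
  obtain ⟨k, hp, hk⟩ := FiniteField.card F p
  haveI := Fact.mk hp
  have hp2 : p ≠ 2 := by
    rintro rfl
    rw [hk, Nat.pow_mod, Nat.mod_self, zero_pow k.ne_zero] at hodd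
    norm_num at hodd
  have hts : t ^ p ≠ 1 := fun e => hp2 ((Nat.prime_dvd_prime_iff_eq Nat.prime_two hp).1
    (ht ▸ orderOf_dvd_of_pow_eq_one e)).symm
  have hN : ∀ c : PG, c * t = t * c → c ∈ Subgroup.normalizer (tor t : Set PG) := by
    intro c hc
    rw [Subgroup.mem_normalizer_iff]
    intro y
    have e : (tor t).map (MulAut.conj c).toMonoidHom = tor t := by
      rw [← tor_conj, hc, mul_inv_cancel_right]
    conv_rhs => rw [← e]
    simp [Subgroup.mem_map]
  obtain ⟨w, hw, hww, -, hinv, hcase⟩ := normalizer_semis p hts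
  -- `b` inverts the torus
  have hb_not : b ∉ tor t := fun hm => by
    haveI := isCyclic_tor p hts
    have h1 : t ≠ 1 := ne_one_of_semis p hts
    have hb1 : b ≠ 1 := fun e => by rw [e, orderOf_one] at hb; norm_num at hb
    have heq := PrimeGraphCIT.eq_of_card_eq_of_cyclic (A := Subgroup.zpowers (⟨t, mem_tor t⟩ : tor t))
      (B := Subgroup.zpowers (⟨b, hm⟩ : tor t))
      (by rw [Nat.card_zpowers, Nat.card_zpowers, Subgroup.orderOf_mk, Subgroup.orderOf_mk, ht, hb])
    obtain ⟨i, hi⟩ := Subgroup.mem_zpowers_iff.1 (heq ▸ Subgroup.mem_zpowers (⟨t, mem_tor t⟩ : tor t))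
    have hi' : b ^ i = t := congrArg Subtype.val hi
    rw [← zpow_mod_orderOf, hb] at hi'
    rcases Int.emod_two_eq_zero_or_one i with h0 | h0 <;> rw [Nat.cast_ofNat, h0] at hi'
    · exact h1 (by rw [← hi', zpow_zero])
    · exact hne (by rw [← hi', zpow_one])
  have hgtor : g ∈ tor t := by
    have hg2 : g ^ 2 ∈ tor t := by
      rcases hcase g (hN g hgt) with h | h
      · exact (tor t).pow_mem h 2
      · rw [show g ^ 2 = 1 by
          calc g ^ 2 = w * w * g * (w * w * g) := by rw [hww, one_mul, pow_two]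
            _ = w * (w * g) * w * (w * g) := by group
            _ = (w * g)⁻¹ * (w * g) := by
              rw [← hinv _ h, show w⁻¹ = w from inv_eq_of_mul_eq_one_left hww]
            _ = 1 := inv_mul_cancel _]
        exact (tor t).one_mem
    obtain ⟨j, hj⟩ := hg
    have e : g = (g ^ 2) ^ (j + 1) := by
      rw [← pow_mul, show 2 * (j + 1) = orderOf g + 1 by omega, pow_succ, pow_orderOf_eq_one, one_mul]
    rw [e]
    exact (tor t).pow_mem hg2 _
  rcases hcase b (hN b htb.symm) with h | h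
  · exact absurd h hb_not
  have hwg : w * g * w⁻¹ = g⁻¹ := hinv g hgtor
  have hbg : b * g * b⁻¹ = g⁻¹ := by
    have hc : (w * b) * g = g * (w * b) := tor_comm (ne_one_of_semis p hts) h hgtor
    calc b * g * b⁻¹ = (w * w) * b * g * b⁻¹ := by rw [hww, one_mul]
      _ = w * ((w * b) * g) * b⁻¹ := by group
      _ = w * g * (w * (b * b⁻¹)) := by rw [hc]; group
      _ = g⁻¹ := by rw [mul_inv_cancel, mul_one, ← hwg, show w⁻¹ = w from inv_eq_of_mul_eq_one_left hww]
  rw [← hgb, mul_inv_cancel_right] at hbg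
  have h2 : g ^ 2 = 1 := by rw [pow_two]; exact eq_inv_iff_mul_eq_one.1 hbg
  rcases (Nat.dvd_prime Nat.prime_two).1 (orderOf_dvd_of_pow_eq_one h2) with h | h
  · exact orderOf_eq_one_iff.1 h
  · rw [h] at hg; exact absurd hg (by decide)

/-- in even characteristic involution centralisers are abelian of order q -/
theorem psl_even_cent [CharP F 2] {t : PG} (ht : orderOf t = 2) :
    Nat.card (Subgroup.centralizer ({t} : Set PG)) = Fintype.card F ∧
      ∀ a ∈ Subgroup.centralizer ({t} : Set PG), ∀ b ∈ Subgroup.centralizer ({t} : Set PG), a * b = b * a := by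
  have h1 : t ≠ 1 := fun e => by rw [e, orderOf_one] at ht; norm_num at ht
  have h2 : t ^ 2 = 1 := orderOf_dvd_iff_pow_eq_one.1 (dvd_of_eq ht)
  have heq : Subgroup.centralizer ({t} : Set PG) = tor t :=
    le_antisymm (fun y hy => centralizer_unip 2 h1 h2 (Subgroup.mem_centralizer_singleton_iff.1 hy))
      fun y hy => Subgroup.mem_centralizer_singleton_iff.2 (tor_comm h1 hy (mem_tor t))
  rw [heq]
  exact ⟨card_tor_unip 2 h1 h2, fun a ha b hb => tor_comm h1 ha hb⟩

/-- a Frobenius group in the Borel subgroup -/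
theorem psl_borel (hodd : Fintype.card F % 2 = 1) {n : ℕ} (hn : 0 < n) (hd : n ∣ (Fintype.card F - 1) / 2) :
    ∃ (A : Subgroup PG) (x : PG), Nat.card A = Fintype.card F ∧ (∀ a ∈ A, x * a * x⁻¹ ∈ A) ∧ x ^ n = 1 ∧
      ∀ i, 0 < i → i < n → ∀ a ∈ A, x ^ i * a * (x ^ i)⁻¹ = a → a = 1 := by
  classical
  obtain ⟨a₀, ha₀⟩ := IsCyclic.exists_generator (α := Fˣ)
  have hord : orderOf a₀ = Fintype.card F - 1 := by
    rw [orderOf_eq_card_of_forall_mem_zpowers ha₀, Nat.card_units, Nat.card_eq_fintype_card]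
  obtain ⟨c, hc⟩ := hd
  have hq : Fintype.card F - 1 = 2 * n * c := by rw [mul_assoc, ← hc]; omega
  have := Fintype.one_lt_card (α := F)
  have hd2 : 2 * n ∣ orderOf a₀ := ⟨c, by rw [hord, hq]⟩
  set a := a₀ ^ (orderOf a₀ / (2 * n)) with hadef
  have ha : orderOf a = 2 * n := orderOf_pow_orderOf_div (orderOf_pos a₀).ne' hd2
  let d : SG := ⟨!![(a : F), 0; 0, ((a⁻¹ : Fˣ) : F)], by simp [det_fin_two_of]⟩
  have hdc : ↥ₘd = !![(a : F), 0; 0, ((a⁻¹ : Fˣ) : F)] := rfl
  have hdpow : ∀ i : ℕ, ↥ₘ(d ^ i) = !![(a : F) ^ i, 0; 0, ((a⁻¹ : Fˣ) : F) ^ i] := by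
    intro i
    induction i with
    | zero => ext r s; fin_cases r <;> fin_cases s <;> simp
    | succ i ih =>
      rw [pow_succ, Matrix.SpecialLinearGroup.coe_mul, ih, hdc]
      ext r s
      fin_cases r <;> fin_cases s <;> simp [pow_succ]
  have hconj : ∀ (i : ℕ) (b : F), d ^ i * rootHomSL (Multiplicative.ofAdd b) * (d ^ i)⁻¹ =
      rootHomSL (Multiplicative.ofAdd ((a : F) ^ (2 * i) * b)) := by
    intro i b
    rw [mul_inv_eq_iff_eq_mul]
    refine Subtype.ext ?_
    rw [Matrix.SpecialLinearGroup.coe_mul, Matrix.SpecialLinearGroup.coe_mul, hdpow, rootHomSL_coe, rootHomSL_coe]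
    have hai : (a : F) ^ i * ((a⁻¹ : Fˣ) : F) ^ i = 1 := by rw [← mul_pow, Units.mul_inv, one_pow]
    ext r s
    fin_cases r <;> fin_cases s <;> simp [-Units.val_inv_eq_inv_val]
    linear_combination -((a : F) ^ i * b) * hai
  refine ⟨rootP, proj d, card_rootP, ?_, ?_, ?_⟩
  · rintro _ ⟨b, rfl⟩
    rw [MonoidHom.comp_apply, ← ofAdd_toAdd b, ← map_inv, ← map_mul, ← map_mul,
      show d * rootHomSL (Multiplicative.ofAdd b.toAdd) * d⁻¹ = _ from by simpa using hconj 1 b.toAdd]
    exact ⟨_, rfl⟩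
  · rw [← map_pow, proj_eq_one, mem_center_cases]
    right
    have hau : (a ^ n) ^ 2 = 1 := by rw [← pow_mul, mul_comm, ← ha, pow_orderOf_eq_one]
    have hane : a ^ n ≠ 1 := fun e => by
      have := Nat.le_of_dvd hn (orderOf_dvd_of_pow_eq_one e)
      omega
    have hav : (a : F) ^ n = -1 := by
      have h1 : ((a : F) ^ n) * ((a : F) ^ n) = 1 := by
        have := congrArg (fun u : Fˣ => (u : F)) hau
        simpa [pow_two] using this
      exact (mul_self_eq_one_iff.1 h1).resolve_left fun e => hane (Units.ext (by simpa using e))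
    refine Subtype.ext ?_
    rw [hdpow, coe_neg_one, hav, ← Units.val_pow_eq_pow_val, inv_pow, Units.val_inv_eq_inv_val,
      Units.val_pow_eq_pow_val, hav]
    ext r s
    fin_cases r <;> fin_cases s <;> simp
  · rintro i hi hin _ ⟨b, rfl⟩ e
    rw [MonoidHom.comp_apply, ← ofAdd_toAdd b, ← map_pow, ← map_inv, ← map_mul, ← map_mul, hconj] at e
    rw [MonoidHom.comp_apply, ← ofAdd_toAdd b]
    have hinj : ∀ x y : F, proj (rootHomSL (Multiplicative.ofAdd x)) = proj (rootHomSL (Multiplicative.ofAdd y)) →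
        x = y := by
      intro x y h
      rcases proj_eq_iff.1 h with h | h
      · exact (congrArg Multiplicative.toAdd (rootHomSL_injective h)).symm
      · exfalso
        have h00 := congrArg (fun g : SG => (↥ₘ g) 0 0) h
        rw [Matrix.SpecialLinearGroup.coe_neg, rootHomSL_coe, rootHomSL_coe] at h00
        have h2 : (2 : F) = 0 := by simp at h00; linear_combination h00
        exact (by omega : Fintype.card F % 2 ≠ 0)
          (haveI : CharP F 2 := CharTwo.of_one_ne_zero_of_two_eq_zero one_ne_zero h2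
           FiniteField.even_card_of_char_two (ringChar.eq F 2))
    have hb := hinj _ _ e
    by_cases hb0 : b.toAdd = 0
    · rw [hb0, ofAdd_zero, map_one, map_one]
    exfalso
    have h1 : (a : F) ^ (2 * i) = 1 := mul_right_cancel₀ hb0 (by rw [hb, one_mul])
    have := Nat.le_of_dvd (by omega) (orderOf_dvd_of_pow_eq_one (show a ^ (2 * i) = 1 from Units.ext (by simpa using h1)))
    omega

/-- the Sylow 2-subgroups of PSL(2,q), q = 3, 5 mod 8 -/
theorem psl_sylow_four (hq : Fintype.card F % 8 = 3 ∨ Fintype.card F % 8 = 5) (P : Sylow 2 PG) :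
    Nat.card P = 4 := by
  haveI : Fact (Nat.Prime 2) := ⟨Nat.prime_two⟩
  have hc := card_pg (F := F)
  rw [show Nat.gcd 2 (Fintype.card F - 1) = 2 from Nat.gcd_eq_left (by omega)] at hc
  obtain ⟨j, hj⟩ := P.isPGroup'.exists_card_eq
  have hd : 2 ^ j ∣ Nat.card PG := hj ▸ Subgroup.card_subgroup_dvd_card _
  obtain ⟨m, hm⟩ : ∃ m, Fintype.card F ^ 2 - 1 = 8 * m ∧ m % 2 = 1 := by
    obtain ⟨k, hk⟩ : ∃ k, Fintype.card F = 8 * k + 3 ∨ Fintype.card F = 8 * k + 5 :=
      ⟨Fintype.card F / 8, by omega⟩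
    rcases hk with hk | hk
    · exact ⟨8 * k * k + 6 * k + 1, by rw [hk, show (8 * k + 3) ^ 2 = 8 * (8 * k * k + 6 * k + 1) + 1 by ring]; omega,
        by rw [show 8 * k * k + 6 * k + 1 = 2 * (4 * k * k + 3 * k) + 1 by ring]; omega⟩
    · exact ⟨8 * k * k + 10 * k + 3, by rw [hk, show (8 * k + 5) ^ 2 = 8 * (8 * k * k + 10 * k + 3) + 1 by ring]; omega,
        by rw [show 8 * k * k + 10 * k + 3 = 2 * (4 * k * k + 5 * k + 1) + 1 by ring]; omega⟩
  have hN : Nat.card PG = 2 ^ 2 * (Fintype.card F * m) := by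
    rw [hm.1] at hc
    linarith
  have hodd : ¬ 2 ∣ Fintype.card F * m := fun h => by
    rcases Nat.prime_two.dvd_mul.1 h with h | h <;> omega
  have hm0 : Fintype.card F * m ≠ 0 := fun e => hodd (e ▸ dvd_zero 2)
  rw [P.card_eq_multiplicity, hN, Nat.factorization_def _ Nat.prime_two,
    padicValNat.mul (by norm_num) hm0, padicValNat.prime_pow, padicValNat.eq_zero_of_not_dvd hodd, add_zero]
  norm_num

end Cfsg.Agent.ThreeOrders

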