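import Mathlib

/-!
Fixed-point-free automorphisms of the acting group and norms on the module.
-/

set_option autoImplicit false
set_option linter.style.haveILetI false
set_option linter.unusedSectionVars false

open Subgroup
open scoped IsMulCommutative

namespace Cfsg.Agent.ThreeOrders

open scoped Classical in
/-- If the norm of `ψ` vanishes, the group it acts on without fixed points acts trivially. -/
theorem norm_trivial {V : Type*} [CommGroup V] {A : Type*} [Group A] [Fintype A] (φ : A →* MulAut V)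
    (ψ : MulAut V) (α : MulAut A) {n : ℕ} (hn : 0 < n) (hcompat : ∀ a, ψ * φ a = φ (α a) * ψ)
    (hfpf : ∀ i, 0 < i → i < n → ∀ a, (α ^ i) a = a → a = 1)
    (hN : ∀ v, ∏ i ∈ Finset.range n, (ψ ^ i) v = 1) (hinj : ∀ v : V, v ^ Fintype.card A = 1 → v = 1)
    (b : A) (v : V) : φ b v = v := by
  have hpow : ∀ i : ℕ, ∀ a, ψ ^ i * φ a = φ ((α ^ i) a) * ψ ^ i := by
    intro i
    induction i with
    | zero => intro a; simp
    | succ i ih =>
      intro a
      rw [pow_succ, mul_assoc, hcompat, ← mul_assoc, ih, pow_succ α, MulAut.mul_apply, mul_assoc]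
  set S : V → V := fun w => ∏ a, φ a w with hSdef
  have hSfix : ∀ w, φ b (S w) = S w := fun w => by
    rw [hSdef]
    dsimp only
    rw [map_prod]
    exact Fintype.prod_bijective (b * ·) (Group.mulLeft_bijective b) _ _ fun a => by
      rw [map_mul, MulAut.mul_apply]
  have hterm : ∀ i a, φ a ((ψ ^ i) (φ a⁻¹ v)) = φ (a * ((α ^ i) a)⁻¹) ((ψ ^ i) v) := by
    intro i a
    have h := congrArg (fun f : MulAut V => f v) (hpow i a⁻¹)
    simp only [MulAut.mul_apply] at h
    rw [h, map_inv (α ^ i), map_mul, MulAut.mul_apply]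
  have hi : ∀ i ∈ Finset.Ico 1 n, ∏ a, φ a ((ψ ^ i) (φ a⁻¹ v)) = S ((ψ ^ i) v) := by
    intro i hi
    rw [Finset.mem_Ico] at hi
    have hinj' : Function.Injective fun a : A => a * ((α ^ i) a)⁻¹ := by
      intro x y e
      dsimp only at e
      have : y⁻¹ * x = (α ^ i) (y⁻¹ * x) := by
        rw [map_mul, map_inv]
        calc y⁻¹ * x = y⁻¹ * (x * ((α ^ i) x)⁻¹) * (α ^ i) x := by group
          _ = ((α ^ i) y)⁻¹ * (α ^ i) x := by rw [e]; group
      exact (inv_mul_eq_one.1 (hfpf i (by omega) hi.2 _ this.symm)).symm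
    rw [Finset.prod_congr rfl fun a _ => hterm i a]
    exact Fintype.prod_bijective _ (Finite.injective_iff_bijective.1 hinj') _ _ fun a => rfl
  have h0 : ∏ a, φ a ((ψ ^ 0) (φ a⁻¹ v)) = v ^ Fintype.card A := by
    rw [Finset.prod_congr rfl fun a _ => hterm 0 a]
    simp
  have hsplit : ∀ f : ℕ → V, ∏ i ∈ Finset.range n, f i = f 0 * ∏ i ∈ Finset.Ico 1 n, f i := fun f => by
    rw [Finset.range_eq_Ico, Finset.prod_eq_prod_Ico_succ_bot hn]
  have h1 : v ^ Fintype.card A * ∏ i ∈ Finset.Ico 1 n, S ((ψ ^ i) v) = 1 := by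
    rw [← Finset.prod_congr rfl hi, ← h0, ← hsplit fun i => ∏ a, φ a ((ψ ^ i) (φ a⁻¹ v)), Finset.prod_comm]
    exact Finset.prod_eq_one fun a _ => by rw [← map_prod, hN, map_one]
  have h2 : S v * ∏ i ∈ Finset.Ico 1 n, S ((ψ ^ i) v) = 1 := by
    have e : ∏ i ∈ Finset.range n, S ((ψ ^ i) v) = 1 := by
      rw [hSdef]
      dsimp only
      rw [Finset.prod_comm]
      exact Finset.prod_eq_one fun a _ => by rw [← map_prod, hN, map_one]
    rw [hsplit fun i => S ((ψ ^ i) v), pow_zero, MulAut.one_apply] at e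
    exact e
  have h3 : v ^ Fintype.card A = S v := mul_right_cancel (h1.trans h2.symm)
  refine mul_inv_eq_one.1 (hinj _ ?_)
  rw [mul_pow, inv_pow, ← map_pow, h3, hSfix, mul_inv_cancel]

variable {G : Type*} [Group G]

/-- powers of an element of a coset -/
theorem mul_pow_eq {V : Subgroup G} [V.Normal] [IsMulCommutative V] (v : V) (x : G) (n : ℕ) :
    ((v : G) * x) ^ n = ((∏ i ∈ Finset.range n, (MulAut.conjNormal x ^ i : MulAut V) v : V) : G) * x ^ n := by
  induction n with
  | zero => simp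
  | succ n ih =>
    rw [pow_succ, ih, Finset.prod_range_succ, Subgroup.coe_mul, ← map_pow, MulAut.conjNormal_apply, pow_succ]
    group

/-- An element acting fixed-point-freely on `A` forces `A` to centralise the elementary abelian `V`, unless
some element has order `n * p`. -/
theorem centralizes [Finite G] (V : Subgroup G) [V.Normal] [IsMulCommutative V] {p : ℕ} (hp : p.Prime)
    (hV : ∀ v ∈ V, v ^ p = 1) (A : Subgroup G) (hA : (Nat.card A).Coprime p) {x : G} {n : ℕ} (hn : 0 < n)
    (hx : ∀ a ∈ A, x * a * x⁻¹ ∈ A) (hxn : x ^ n ∈ V)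
    (hfpf : ∀ i, 0 < i → i < n → ∀ a ∈ A, x ^ i * a * (x ^ i)⁻¹ = a → a = 1)
    (hno : ∀ g : G, orderOf g ≠ n * p) {a v : G} (ha : a ∈ A) (hv : v ∈ V) : a * v = v * a := by
  classical
  have := Fintype.ofFinite A
  rcases eq_or_ne A ⊥ with rfl | hAne
  · rw [Subgroup.mem_bot.1 ha, one_mul, mul_one]
  have hVA : ∀ b ∈ A, b ∈ V → b = 1 := by
    intro b hbA hbV
    have h1 : b ^ p = 1 := hV b hbV
    exact orderOf_eq_one_iff.1 (Nat.eq_one_of_dvd_coprimes hA (Subgroup.orderOf_dvd_natCard A hbA)
      (orderOf_dvd_of_pow_eq_one h1))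
  have hxi : ∀ (i : ℕ) (b : G), b ∈ A → x ^ i * b * (x ^ i)⁻¹ ∈ A := by
    intro i
    induction i with
    | zero => intro b hb; simpa using hb
    | succ i ih =>
      intro b hb
      have := ih _ (hx b hb)
      simpa [pow_succ, mul_assoc] using this
  -- the powers of `x` below `n` stay outside `V`
  have hout : ∀ i, 0 < i → i < n → x ^ i ∉ V := by
    intro i hi hin hiV
    obtain ⟨b, hb, hb1⟩ := (Subgroup.bot_or_exists_ne_one A).resolve_left hAne
    refine hb1 (hfpf i hi hin b hb ?_)
    have hmem : x ^ i * b * (x ^ i)⁻¹ * b⁻¹ ∈ V := by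
      have := V.mul_mem hiV (Subgroup.Normal.conj_mem inferInstance _ (V.inv_mem hiV) b)
      simpa [mul_assoc] using this
    exact mul_inv_eq_one.1 (hVA _ (A.mul_mem (hxi i b hb) (A.inv_mem hb)) hmem)
  -- all norms vanish
  have hpow : ∀ w : V, ((w : G) * x) ^ n = 1 := by
    intro w
    set g := (w : G) * x with hg
    have hgV : ∀ i, g ^ i * (x ^ i)⁻¹ ∈ V := fun i => by
      rw [hg, mul_pow_eq, mul_inv_cancel_right]
      exact SetLike.coe_mem _
    by_contra hne
    have hgn : g ^ n ∈ V := by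
      have := V.mul_mem (hgV n) hxn
      rwa [inv_mul_cancel_right] at this
    have hdiv : orderOf g ∣ n * p := orderOf_dvd_of_pow_eq_one (by rw [pow_mul]; exact hV _ hgn)
    have hn_dvd : n ∣ orderOf g := by
      apply Nat.dvd_of_mod_eq_zero
      by_contra hmod
      refine hout (orderOf g % n) (Nat.pos_of_ne_zero hmod) (Nat.mod_lt _ hn) ?_
      have h1 : g ^ (orderOf g % n) ∈ V := by
        have h2 : g ^ (orderOf g % n) * (g ^ n) ^ (orderOf g / n) = 1 := by
          rw [← pow_mul, ← pow_add, Nat.mod_add_div, pow_orderOf_eq_one]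
        rw [eq_inv_of_mul_eq_one_left h2]
        exact V.inv_mem (V.pow_mem hgn _)
      have := V.mul_mem (V.inv_mem (hgV (orderOf g % n))) h1
      simpa [mul_assoc] using this
    obtain ⟨c, hc⟩ := hn_dvd
    rcases (Nat.dvd_prime hp).1 (Nat.dvd_of_mul_dvd_mul_left hn (hc ▸ hdiv)) with rfl | rfl
    · exact hne (by rw [show n = orderOf g by rw [hc, mul_one], pow_orderOf_eq_one])
    · exact hno g hc
  have hx1 : x ^ n = 1 := by simpa using hpow 1
  let c₀ : A →* A :=
    { toFun := fun b => ⟨x * b * x⁻¹, hx b b.2⟩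
      map_one' := Subtype.ext (by simp)
      map_mul' := fun b c => Subtype.ext (by simp [mul_assoc]) }
  let α : MulAut A :=
    MulEquiv.ofBijective c₀
      (Finite.injective_iff_bijective.1 fun b c e => Subtype.ext (mul_left_cancel (mul_right_cancel (congrArg (fun z : A => (z : G)) e))))
  have hα : ∀ (i : ℕ) (b : A), (((α ^ i) b : A) : G) = x ^ i * b * (x ^ i)⁻¹ := by
    intro i
    induction i with
    | zero => intro b; simp
    | succ i ih =>
      intro b
      rw [pow_succ', MulAut.mul_apply]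
      show x * (((α ^ i) b : A) : G) * x⁻¹ = _
      rw [ih]
      group
  have key := norm_trivial (V := V) ((MulAut.conjNormal (H := V)).comp A.subtype) (MulAut.conjNormal x) α hn
    (fun b => MulEquiv.ext fun w => Subtype.ext (by
      show x * ((b : G) * w * (b : G)⁻¹) * x⁻¹ = (x * b * x⁻¹) * (x * w * x⁻¹) * (x * b * x⁻¹)⁻¹
      group))
    (fun i hi hin b hb => Subtype.ext (hfpf i hi hin b b.2 (by rw [← hα]; exact congrArg Subtype.val hb)))
    (fun w => Subtype.ext (by
      have h := hpow w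
      rw [mul_pow_eq, hx1, mul_one] at h
      exact h))
    (fun w hw => by
      have h1 : (w : G) ^ p = 1 := hV w w.2
      have h2 : (w : G) ^ Fintype.card A = 1 := by
        have := congrArg Subtype.val hw
        simpa using this
      rw [← Nat.card_eq_fintype_card] at h2
      exact Subtype.ext (orderOf_eq_one_iff.1 (Nat.eq_one_of_dvd_coprimes hA (orderOf_dvd_of_pow_eq_one h2)
        (orderOf_dvd_of_pow_eq_one h1))))
    ⟨a, ha⟩ ⟨v, hv⟩
  exact mul_inv_eq_iff_eq_mul.1 (congrArg Subtype.val key)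

end Cfsg.Agent.ThreeOrders
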