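import Cfsg.Agent.ThreeOrders.Basic
import Cfsg.Agent.ThreeOrders.Norm
import Cfsg.Agent.CITSolv.L27

/-!
An elementary abelian self-centralising normal subgroup and a Frobenius group in the quotient.
-/

set_option autoImplicit false
set_option linter.style.haveILetI false
set_option linter.unusedSectionVars false

open Subgroup

namespace Cfsg.Agent.ThreeOrders

universe u

variable {X : Type u} [Group X] [Finite X]

/-- fixed-point-freeness of an element of prime order is checked on the element itself -/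
theorem fpf_of_prime {Q : Type*} [Group Q] {A : Subgroup Q} {y : Q} {n : ℕ} (hn : n.Prime) (hy : y ^ n = 1)
    (h1 : ∀ a ∈ A, y * a * y⁻¹ = a → a = 1) :
    ∀ i, 0 < i → i < n → ∀ a ∈ A, y ^ i * a * (y ^ i)⁻¹ = a → a = 1 := by
  intro i hi hin a ha he
  refine h1 a ha (mul_inv_eq_iff_eq_mul.2 ?_)
  have hci : Commute (y ^ i) a := mul_inv_eq_iff_eq_mul.1 he
  obtain ⟨m, hm⟩ := exists_pow_eq_self_of_coprime (x := y) (n := i)
    (Nat.Coprime.coprime_dvd_right (orderOf_dvd_of_pow_eq_one hy)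
      ((hn.coprime_iff_not_dvd.2 (Nat.not_dvd_of_pos_of_lt hi hin)).symm))
  have := hci.pow_left m
  rwa [hm] at this

/-- A Frobenius group of the quotient by a self-centralising `V` forces elements of order `n * p`. -/
theorem no_frobenius (V : Subgroup X) [V.Normal] [IsMulCommutative V] {p : ℕ} (hp : p.Prime)
    (hV : ∀ v ∈ V, v ^ p = 1) (hC : centralizer (V : Set X) ≤ V) {ℓ : ℕ} (hℓ : ℓ.Prime) (hℓp : ℓ ≠ p)
    (A : Subgroup (X ⧸ V)) (hA : IsPGroup ℓ A) {y : X ⧸ V} {n : ℕ} (hn : 0 < n)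
    (hyA : ∀ a ∈ A, y * a * y⁻¹ ∈ A) (hyn : y ^ n = 1)
    (hfpf : ∀ i, 0 < i → i < n → ∀ a ∈ A, y ^ i * a * (y ^ i)⁻¹ = a → a = 1)
    (hno : ∀ g : X, orderOf g ≠ n * p) : A = ⊥ := by
  haveI : Fact ℓ.Prime := ⟨hℓ⟩
  haveI : Fact p.Prime := ⟨hp⟩
  set π := QuotientGroup.mk' V with hπ
  set P := A.comap π with hP
  have hVP : V ≤ P := fun v hv => by
    rw [hP, mem_comap, hπ, QuotientGroup.mk'_apply, (QuotientGroup.eq_one_iff v).2 hv]
    exact A.one_mem
  let S : Sylow ℓ P := default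
  set A' := (S : Subgroup P).map P.subtype with hA'
  have hA'p : IsPGroup ℓ A' := S.2.map _
  have hVp : IsPGroup p V := fun v => ⟨1, Subtype.ext (by simpa using hV v v.2)⟩
  have hdec : ∀ z ∈ P, ∃ v ∈ V, ∃ s ∈ A', z = v * s := by
    have htop : (S : Subgroup P) ⊔ V.subgroupOf P = ⊤ := by
      apply index_eq_one.1
      refine Nat.eq_one_of_dvd_coprimes ?_ (index_dvd_of_le le_sup_left) (index_dvd_of_le le_sup_right)
      have h1 : ¬ ℓ ∣ (S : Subgroup P).index := S.not_dvd_index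
      have h2 : ∃ k, (V.subgroupOf P).index = ℓ ^ k := by
        have e : (V.subgroupOf P).index = Nat.card A := by
          have h := Subgroup.relIndex_ker (K := P) π
          rw [hπ, QuotientGroup.ker_mk', ← hπ, hP,
            map_comap_eq_self_of_surjective (QuotientGroup.mk'_surjective V)] at h
          exact h
        rw [e]
        exact hA.exists_card_eq
      obtain ⟨k, hk⟩ := h2
      rw [hk]
      exact Nat.Coprime.pow_right k ((hℓ.coprime_iff_not_dvd.2 h1).symm)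
    intro z hz
    have hz' : (⟨z, hz⟩ : P) ∈ ((V.subgroupOf P ⊔ (S : Subgroup P) : Subgroup P) : Set P) := by
      rw [sup_comm, htop]; trivial
    rw [normal_mul] at hz'
    obtain ⟨v, hv, s, hs, e⟩ := hz'
    exact ⟨v, hv, s, ⟨s, hs, rfl⟩, (congrArg Subtype.val e).symm⟩
  have hA'A : ∀ s ∈ A', π s ∈ A := by
    rintro _ ⟨s, -, rfl⟩
    exact s.2
  have hA'V : ∀ s ∈ A', s ∈ V → s = 1 := by
    intro s hs hsV
    obtain ⟨k, hk⟩ := hA'p ⟨s, hs⟩
    exact orderOf_eq_one_iff.1 (Nat.eq_one_of_dvd_coprimes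
      ((((Nat.coprime_primes hℓ hp).2 hℓp)).pow_left k)
      (orderOf_dvd_of_pow_eq_one (congrArg Subtype.val hk)) (orderOf_dvd_of_pow_eq_one (hV s hsV)))
  have hsurj : ∀ a ∈ A, ∃ s ∈ A', π s = a := by
    intro a ha
    obtain ⟨z, rfl⟩ := QuotientGroup.mk'_surjective V a
    obtain ⟨v, hv, s, hs, rfl⟩ := hdec z (mem_comap.2 ha)
    refine ⟨s, hs, ?_⟩
    rw [map_mul, show π v = 1 from (QuotientGroup.eq_one_iff v).2 hv, one_mul]
  -- a lift of `y` normalising `A'`
  obtain ⟨y₀, hy₀⟩ := QuotientGroup.mk'_surjective V y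
  have hy₀P : ∀ z ∈ P, y₀ * z * y₀⁻¹ ∈ P := fun z hz => by
    rw [hP, mem_comap, map_mul, map_mul, map_inv, hy₀]
    exact hyA _ (mem_comap.1 hz)
  let c : P →* P :=
    { toFun := fun z => ⟨y₀ * z * y₀⁻¹, hy₀P z z.2⟩
      map_one' := Subtype.ext (by simp)
      map_mul' := fun a b => Subtype.ext (by simp [mul_assoc]) }
  have hcinj : Function.Injective c := fun a b e =>
    Subtype.ext (mul_left_cancel (mul_right_cancel (congrArg Subtype.val e)))
  let S' : Sylow ℓ P := IsPGroup.toSylow ((S.2).map c) (by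
    intro hd
    refine S.not_dvd_index ?_
    have h1 := ((S : Subgroup P).map c).card_mul_index
    rw [card_map_of_injective hcinj] at h1
    have h2 := (S : Subgroup P).card_mul_index
    rwa [Nat.eq_of_mul_eq_mul_left Nat.card_pos (h1.trans h2.symm)] at hd)
  obtain ⟨g, hg⟩ := MulAction.exists_smul_eq P S S'
  have hgS : ((S : Subgroup P).map (MulAut.conj g).toMonoidHom) = (S : Subgroup P).map c := by
    have h := congrArg (fun Q : Sylow ℓ P => (Q : Subgroup P)) hg
    exact h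
  obtain ⟨v, hv, s, hs, hgvs⟩ := hdec (g : X) g.2
  set x := v⁻¹ * y₀ with hx
  have hxA : ∀ a ∈ A', x * a * x⁻¹ ∈ A' := by
    rintro _ ⟨a, ha, rfl⟩
    obtain ⟨b, hb, hbe⟩ : c a ∈ (S : Subgroup P).map (MulAut.conj g).toMonoidHom :=
      hgS ▸ mem_map_of_mem c ha
    have e : y₀ * (a : X) * y₀⁻¹ = v * (s * b * s⁻¹) * v⁻¹ := by
      have := congrArg Subtype.val hbe
      simp only [MulEquiv.coe_toMonoidHom, MulAut.conj_apply, Subgroup.coe_mul, Subgroup.coe_inv] at this
      rw [hgvs] at this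
      rw [show v * (s * b * s⁻¹) * v⁻¹ = v * s * b * (v * s)⁻¹ by group, this]
      rfl
    have e2 : x * (a : X) * x⁻¹ = s * b * s⁻¹ := by
      rw [hx, show v⁻¹ * y₀ * (a : X) * (v⁻¹ * y₀)⁻¹ = v⁻¹ * (y₀ * (a : X) * y₀⁻¹) * v by group, e]
      group
    show x * (a : X) * x⁻¹ ∈ A'
    rw [e2]
    exact mul_mem (mul_mem hs ⟨b, hb, rfl⟩) (inv_mem hs)
  have hπx : π x = y := by
    rw [hx, map_mul, map_inv, show π v = 1 from (QuotientGroup.eq_one_iff v).2 hv, inv_one, one_mul, hy₀]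
  have hcard : (Nat.card A').Coprime p := by
    obtain ⟨k, hk⟩ := hA'p.exists_card_eq
    rw [hk]
    exact ((Nat.coprime_primes hℓ hp).2 hℓp).pow_left k
  have hcen : ∀ a ∈ A', ∀ w ∈ V, a * w = w * a := fun a₁ ha₁ w hw => centralizes V hp hV A' hcard (x := x) hn hxA
    ((QuotientGroup.eq_one_iff _).1 (show π (x ^ n) = 1 by rw [map_pow, hπx, hyn]))
    (fun i hi hin a ha he => by
      refine hA'V a ha ((QuotientGroup.eq_one_iff a).1 (hfpf i hi hin _ (hA'A a ha) ?_))
      show y ^ i * π a * (y ^ i)⁻¹ = π a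
      rw [← hπx, ← map_pow, ← map_inv, ← map_mul, ← map_mul, he]) hno ha₁ hw
  rw [Subgroup.eq_bot_iff_forall]
  intro a ha
  obtain ⟨s, hs, rfl⟩ := hsurj a ha
  rw [hA'V s hs (hC (mem_centralizer_iff.2 fun w hw => (hcen s hs w hw).symm)), map_one]

/-- Without elements of order `2 * p` all involutions agree modulo a self-centralising `V`. -/
theorem exists_orderOf_two_mul (V : Subgroup X) [V.Normal] [IsMulCommutative V] {p : ℕ} (hp : p.Prime)
    (hp2 : p ≠ 2) (hV : ∀ v ∈ V, v ^ p = 1) (hC : centralizer (V : Set X) ≤ V) [IsSimpleGroup (X ⧸ V)]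
    (hna : ∃ a b : X ⧸ V, a * b ≠ b * a) (h2 : 2 ∣ Nat.card (X ⧸ V)) :
    ∃ g : X, orderOf g = 2 * p := by
  by_contra hcon
  push Not at hcon
  haveI : Fact (Nat.Prime 2) := ⟨Nat.prime_two⟩
  have hinv : ∀ t : X, orderOf t = 2 → ∀ v ∈ V, t * v * t⁻¹ = v⁻¹ := by
    intro t ht v hv
    let φ : V →* V := (MulAut.conjNormal t : MulAut V).toMonoidHom
    have hφ : MonoidHom.FixedPointFree φ := by
      intro w hw
      by_contra hw1
      have hc : Commute t (w : X) := mul_inv_eq_iff_eq_mul.1 (by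
        have := congrArg Subtype.val hw
        simpa [φ, MulAut.conjNormal_apply] using this)
      refine hcon (t * w) ?_
      exact orderOf_mul_primes Nat.prime_two hp hp2.symm ht
        ((hp.eq_one_or_self_of_dvd _ (orderOf_dvd_of_pow_eq_one (hV w w.2))).resolve_left
          fun e => hw1 (Subtype.ext (orderOf_eq_one_iff.1 e))) hc
    have htt : t⁻¹ = t := inv_eq_of_mul_eq_one_right (by rw [← pow_two, ← ht, pow_orderOf_eq_one])
    have hi : Function.Involutive φ := fun w => Subtype.ext (by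
      show t * (t * (w : X) * t⁻¹) * t⁻¹ = w
      nth_rewrite 1 [← htt]
      nth_rewrite 3 [← htt]
      group)
    exact congrArg Subtype.val (congrFun (hφ.coe_eq_inv_of_involutive hi) ⟨v, hv⟩)
  have hsame : ∀ t s : X, orderOf t = 2 → orderOf s = 2 → QuotientGroup.mk' V t = QuotientGroup.mk' V s := by
    intro t s ht hs
    refine (QuotientGroup.mk'_eq_mk' V).2 ⟨t⁻¹ * s, ?_, by group⟩
    refine hC (mem_centralizer_iff.2 fun v hv => ?_)
    have e1 := hinv s hs v hv
    have e2 := hinv t ht v hv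
    have e3 : (t⁻¹ * s) * v * (t⁻¹ * s)⁻¹ = v := by
      calc (t⁻¹ * s) * v * (t⁻¹ * s)⁻¹ = t⁻¹ * (s * v * s⁻¹) * t := by group
        _ = t⁻¹ * (t * v * t⁻¹) * t := by rw [e1, e2]
        _ = v := by group
    exact (mul_inv_eq_iff_eq_mul.1 e3).symm
  have hlift : ∀ q : X ⧸ V, orderOf q = 2 → ∃ t : X, orderOf t = 2 ∧ QuotientGroup.mk' V t = q := by
    intro q hq
    obtain ⟨g, rfl⟩ := QuotientGroup.mk'_surjective V q
    have he : QuotientGroup.mk' V g ^ p = QuotientGroup.mk' V g := by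
      obtain ⟨j, hj⟩ := hp.odd_of_ne_two hp2
      rw [hj, pow_succ, pow_mul, ← hq, pow_orderOf_eq_one, one_pow, one_mul]
    refine ⟨g ^ p, orderOf_eq_prime ?_ ?_, by rw [map_pow, he]⟩
    · rw [← pow_mul, mul_comm, pow_mul]
      exact hV _ ((QuotientGroup.eq_one_iff _).1
        (show QuotientGroup.mk' V (g ^ 2) = 1 by rw [map_pow, ← hq, pow_orderOf_eq_one]))
    · intro e
      rw [← map_pow, e, map_one] at he
      rw [← he, orderOf_one] at hq
      norm_num at hq
  obtain ⟨s, hs⟩ := exists_prime_orderOf_dvd_card' (G := X ⧸ V) 2 h2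
  obtain ⟨s₀, hs₀, hs₀e⟩ := hlift s hs
  have hcent : s ∈ center (X ⧸ V) := mem_center_iff.2 fun q => by
    have ho : orderOf (q * s * q⁻¹) = 2 := hs ▸ (MulAut.conj q).orderOf_eq s
    obtain ⟨t, ht, hte⟩ := hlift _ ho
    have := hsame t s₀ ht hs₀
    rw [hte, hs₀e] at this
    exact mul_inv_eq_iff_eq_mul.1 this
  rcases (inferInstance : (center (X ⧸ V)).Normal).eq_bot_or_eq_top with h | h
  · rw [h, mem_bot] at hcent
    rw [hcent, orderOf_one] at hs
    norm_num at hs
  · obtain ⟨a, b, hab⟩ := hna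
    exact hab (mem_center_iff.1 (h ▸ Subgroup.mem_top b) a)

/-- The centraliser of `V` is `V`. -/
theorem P3.centralizer_le (h : P3 X) (V : Subgroup X) [V.Normal] [IsMulCommutative V] (hne : V ≠ ⊥)
    {p : ℕ} (hp : p.Prime) (hV : ∀ v ∈ V, v ^ p = 1) [IsSimpleGroup (X ⧸ V)]
    (hns : ¬ Group.IsSolvable (X ⧸ V)) : centralizer (V : Set X) ≤ V := by
  classical
  have hn := ((inferInstance : (centralizer (V : Set X)).Normal)).map (QuotientGroup.mk' V)
    (QuotientGroup.mk'_surjective V)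
  rcases hn.eq_bot_or_eq_top with hb | ht
  · rwa [Subgroup.map_eq_bot_iff, QuotientGroup.ker_mk'] at hb
  exfalso
  have hVC : V ≤ centralizer (V : Set X) := le_centralizer_iff_isMulCommutative.2 inferInstance
  have hCtop : centralizer (V : Set X) = ⊤ := by
    have := comap_map_eq (QuotientGroup.mk' V) (centralizer (V : Set X))
    rw [ht, comap_top, QuotientGroup.ker_mk', sup_eq_left.2 hVC] at this
    exact this.symm
  obtain ⟨v, hv, hv1⟩ := (V.bot_or_exists_ne_one).resolve_left hne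
  have hvp : orderOf v = p := (hp.eq_one_or_self_of_dvd _ (orderOf_dvd_of_pow_eq_one (hV v hv))).resolve_left
    fun e => hv1 (orderOf_eq_one_iff.1 e)
  have hX3 := S4068.three_le_primeFactors hns
  have hle : 2 ≤ ((Nat.card (X ⧸ V)).primeFactors.erase p).card := by
    have := Finset.pred_card_le_card_erase (s := (Nat.card (X ⧸ V)).primeFactors) (a := p)
    omega
  obtain ⟨q, hq, r, hr, hqr⟩ := Finset.one_lt_card.1 hle
  rw [Finset.mem_erase, Nat.mem_primeFactors] at hq hr
  have key : ∀ q : ℕ, q.Prime → q ≠ p → q ∣ Nat.card (X ⧸ V) → ∃ g : X, orderOf g = p * q := by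
    intro q hq hqp hqd
    haveI := Fact.mk hq
    obtain ⟨c, hc⟩ := exists_prime_orderOf_dvd_card' (G := X) q (hqd.trans (card_quotient_dvd_card V))
    exact ⟨v * c, orderOf_mul_primes hp hq hqp.symm hvp hc
      (mem_centralizer_iff.1 (hCtop ▸ Subgroup.mem_top c) v hv)⟩
  exact h.not_two_partners hp hq.2.1 hr.2.1 hq.1.symm hr.1.symm hqr (key q hq.2.1 hq.1 hq.2.2.1)
    (key r hr.2.1 hr.1 hr.2.2.1)

end Cfsg.Agent.ThreeOrders
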