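import Cfsg.Agent.ThreeOrders.List
import Cfsg.Agent.ThreeOrders.Lift
import Cfsg.Agent.S0205
import Cfsg.Agent.S0333

/-!
The solvable radical.
-/

set_option autoImplicit false
set_option linter.style.haveILetI false
set_option linter.unusedSectionVars false

open Subgroup

namespace Cfsg.Agent.ThreeOrders

universe u

variable {X : Type u} [Group X] [Finite X] (V : Subgroup X) [V.Normal] [IsMulCommutative V] {p : ℕ}

/-- `no_frobenius` through an isomorphism of the quotient -/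
theorem no_frobenius_equiv {K : Type*} [Group K] [Finite K] (e : (X ⧸ V) ≃* K) (hp : p.Prime)
    (hV : ∀ v ∈ V, v ^ p = 1) (hC : centralizer (V : Set X) ≤ V) {ℓ : ℕ} (hℓ : ℓ.Prime) (hℓp : ℓ ≠ p)
    (A : Subgroup K) (hA : IsPGroup ℓ A) {y : K} {n : ℕ} (hn : 0 < n)
    (hyA : ∀ a ∈ A, y * a * y⁻¹ ∈ A) (hyn : y ^ n = 1)
    (hfpf : ∀ i, 0 < i → i < n → ∀ a ∈ A, y ^ i * a * (y ^ i)⁻¹ = a → a = 1)
    (hno : ∀ g : X, orderOf g ≠ n * p) : A = ⊥ := by
  have h := no_frobenius V hp hV hC hℓ hℓp (A.map e.symm.toMonoidHom) (hA.map _) (y := e.symm y) hn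
    (by
      rintro _ ⟨a, ha, rfl⟩
      exact ⟨y * a * y⁻¹, hyA a ha, by simp⟩)
    (by rw [← map_pow, hyn, map_one])
    (by
      rintro i hi hin _ ⟨a, ha, rfl⟩ he
      have he' : e.symm (y ^ i * a * (y ^ i)⁻¹) = e.symm a := by simpa using he
      rw [show a = 1 from hfpf i hi hin a ha (e.symm.injective he'), map_one])
    hno
  exact (Subgroup.map_eq_bot_iff_of_injective A (f := e.symm.toMonoidHom) e.symm.injective).1 h

/-- a Frobenius group of shape `[r]4` in a Suzuki group -/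
theorem sz_frobenius {F : Type*} [Field F] [Fintype F] {m : ℕ} (hm : 1 ≤ m)
    (hF : Fintype.card F = 2 ^ (2 * m + 1)) :
    ∃ (ℓ : ℕ) (A : Subgroup (Cfsg.Sz F m)) (y : Cfsg.Sz F m), ℓ.Prime ∧ ℓ ≠ 2 ∧ Nat.card A = ℓ ∧
      (∀ a ∈ A, y * a * y⁻¹ ∈ A) ∧ y ^ 4 = 1 ∧
      ∀ i, 0 < i → i < 4 → ∀ a ∈ A, y ^ i * a * (y ^ i)⁻¹ = a → a = 1 := by
  classical
  obtain ⟨U, hcyc, hk, hcent, hN⟩ := S0333.result hm hF (2 ^ (2 * m + 1) + 2 ^ (m + 1) + 1) (Set.mem_insert _ _)
  set k := 2 ^ (2 * m + 1) + 2 ^ (m + 1) + 1 with hkdef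
  have hkodd : k % 2 = 1 := by
    have h1 : 2 ^ (2 * m + 1) % 2 = 0 := by rw [pow_succ]; omega
    have h2 : 2 ^ (m + 1) % 2 = 0 := by rw [pow_succ]; omega
    omega
  have hk1 : k ≠ 1 := by
    have := Nat.one_le_two_pow (n := 2 * m + 1)
    have := Nat.one_le_two_pow (n := m)
    have := Nat.one_le_two_pow (n := m + 1)
    omega
  obtain ⟨ℓ, hℓ, hℓd⟩ := Nat.exists_prime_and_dvd hk1
  haveI := Fact.mk hℓ
  obtain ⟨⟨u, huU⟩, hu⟩ := exists_prime_orderOf_dvd_card' (G := U) ℓ (hk.symm ▸ hℓd)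
  rw [Subgroup.orderOf_mk] at hu
  have hℓ2 : ℓ ≠ 2 := fun e => by subst e; omega
  set A := zpowers u with hA
  have hAU : A ≤ U := Subgroup.zpowers_le.2 huU
  have hAc : Nat.card A = ℓ := by rw [hA, Nat.card_zpowers, hu]
  set N := normalizer (U : Set (Cfsg.Sz F m)) with hNdef
  have hNA : ∀ g ∈ N, ∀ a ∈ A, g * a * g⁻¹ ∈ A := by
    intro g hg
    have hle : A.map (MulAut.conj g).toMonoidHom ≤ U := by
      rintro _ ⟨a, ha, rfl⟩
      exact (mem_normalizer_iff.1 hg a).1 (hAU ha)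
    have heq : A.map (MulAut.conj g).toMonoidHom = A := by
      have h := PrimeGraphCIT.eq_of_card_eq_of_cyclic (C := U) (A := (A.map (MulAut.conj g).toMonoidHom).subgroupOf U)
        (B := A.subgroupOf U) (by
          rw [Nat.card_congr (subgroupOfEquivOfLe hle).toEquiv, Nat.card_congr (subgroupOfEquivOfLe hAU).toEquiv,
            card_map_of_injective (MulAut.conj g).injective])
      have h' := congrArg (Subgroup.map U.subtype) h
      rwa [map_subgroupOf_eq_of_le hle, map_subgroupOf_eq_of_le hAU] at h'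
    intro a ha
    exact heq ▸ mem_map_of_mem _ ha
  have hu1 : u ≠ 1 := fun e => hℓ.ne_one (by rw [← hu, e, orderOf_one])
  let φ : N →* MulAut A :=
    A.normalizerMonoidHom.comp (Subgroup.inclusion (show N ≤ normalizer (A : Set (Cfsg.Sz F m)) from fun g hg =>
      mem_normalizer_iff.2 fun a => ⟨hNA g hg a, fun ha => by
        simpa [mul_assoc] using hNA g⁻¹ (inv_mem hg) _ ha⟩))
  have hφ : ∀ g : N, φ g = 1 ↔ (g : Cfsg.Sz F m) * u = u * g := by
    intro g
    constructor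
    · intro h
      have := congrArg Subtype.val (DFunLike.congr_fun h (⟨u, mem_zpowers u⟩ : A))
      exact mul_inv_eq_iff_eq_mul.1 this
    · intro h
      refine MulEquiv.ext fun a => Subtype.ext ?_
      obtain ⟨j, hj⟩ := Subgroup.mem_zpowers_iff.1 a.2
      show (g : Cfsg.Sz F m) * a * (g : Cfsg.Sz F m)⁻¹ = a
      rw [← hj, ((show Commute (g : Cfsg.Sz F m) u from h).zpow_right j).eq, mul_inv_cancel_right]
  have hker : φ.ker = U.subgroupOf N := by
    ext g
    rw [MonoidHom.mem_ker, hφ, mem_subgroupOf, ← hcent u huU hu1, mem_centralizer_singleton_iff]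
  have hrange : Nat.card φ.range = 4 := by
    have := φ.ker.card_mul_index
    rw [index_ker, hker, Nat.card_congr (subgroupOfEquivOfLe (le_normalizer (H := U))).toEquiv, hk, hN] at this
    exact Nat.eq_of_mul_eq_mul_left (show 0 < k by omega) (this.trans (mul_comm 4 k))
  haveI : IsCyclic A := isCyclic_of_prime_card hAc
  haveI : Fact (Nat.card A).Prime := ⟨hAc.symm ▸ hℓ⟩
  haveI : IsCyclic (MulAut A) :=
    isCyclic_of_surjective (IsCyclic.mulAutMulEquiv (G := ↥A)).symm.toMonoidHom (MulEquiv.surjective _)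
  obtain ⟨σ, hσ⟩ := IsCyclic.exists_generator (α := φ.range)
  have hσ4 : orderOf (σ : MulAut A) = 4 := by
    rw [Subgroup.orderOf_coe, orderOf_eq_card_of_forall_mem_zpowers hσ, hrange]
  obtain ⟨g, hg⟩ := σ.2
  have hgk : orderOf (φ (g ^ k)) = 4 := by
    rw [map_pow, hg, orderOf_pow, hσ4, Nat.Coprime.gcd_eq_one, Nat.div_one]
    exact Nat.Coprime.pow_left 2 (Nat.coprime_two_left.2 (Nat.odd_iff.2 hkodd))
  refine ⟨ℓ, A, ((g ^ k : N) : Cfsg.Sz F m), hℓ, hℓ2, hAc, fun a ha => hNA _ (g ^ k).2 a ha, ?_, ?_⟩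
  · have h := pow_card_eq_one' (x := g)
    rw [show Nat.card N = 4 * k from hN, mul_comm, pow_mul] at h
    exact congrArg Subtype.val h
  · intro i hi hi4 a ha he
    by_contra ha1
    have hφi : φ ((g ^ k) ^ i) = 1 := by
      rw [hφ, Subgroup.coe_pow]
      haveI : Fact (Nat.card A).Prime := ⟨hAc.symm ▸ hℓ⟩
      obtain ⟨j, hj⟩ := Subgroup.mem_zpowers_iff.1
        (mem_zpowers_of_prime_card hAc (g := (⟨a, ha⟩ : A)) (g' := ⟨u, mem_zpowers u⟩) fun e => ha1 (congrArg Subtype.val e))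
      have hja : a ^ j = u := congrArg Subtype.val hj
      rw [← hja]
      exact (show Commute _ a from mul_inv_eq_iff_eq_mul.1 he).zpow_right j
    rw [map_pow] at hφi
    exact absurd (hgk ▸ orderOf_dvd_of_pow_eq_one hφi) (Nat.not_dvd_of_pos_of_lt hi hi4)

variable [IsSimpleGroup (X ⧸ V)]

/-- An abelian chief factor below the simple quotient. -/
theorem no_factor (h : P3 X) (hne : V ≠ ⊥) (hp : p.Prime) (hV : ∀ v ∈ V, v ^ p = 1)
    (hna : ∃ a b : X ⧸ V, a * b ≠ b * a) (hL : ThreeList (X ⧸ V)) :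
    (∃ (F : Type) (_ : Field F) (_ : Fintype F), CharP F 2 ∧ 4 ≤ Fintype.card F ∧
        Nonempty ((X ⧸ V) ≃* Matrix.ProjectiveSpecialLinearGroup (Fin 2) F)) ∧
      ∃ x : X, orderOf x = 4 := by
  classical
  haveI : Fact (Nat.Prime 2) := ⟨Nat.prime_two⟩
  haveI : Fact p.Prime := ⟨hp⟩
  have hns : ¬ Group.IsSolvable (X ⧸ V) := fun hs => by
    obtain ⟨a, b, hab⟩ := hna
    exact hab (IsSimpleGroup.comm_iff_isSolvable.2 hs a b)
  have hC := h.centralizer_le V hne hp hV hns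
  have h2 : 2 ∣ Nat.card (X ⧸ V) := by
    by_contra h2
    exact hns (S0205.result (Nat.odd_iff.2 (Nat.two_dvd_ne_zero.1 h2)))
  have lift4 : (∃ q : X ⧸ V, orderOf q = 4) → ∃ x : X, orderOf x = 4 := fun ⟨q, hq⟩ => by
    obtain ⟨x, hx⟩ := exists_orderOf_quotient V q
    exact ⟨x, hx.trans hq⟩
  have hQlist : (∃ q : X ⧸ V, orderOf q = 4) ∨
      (∃ (F : Type) (_ : Field F) (_ : Fintype F), CharP F 2 ∧ 4 ≤ Fintype.card F ∧
        Nonempty ((X ⧸ V) ≃* Matrix.ProjectiveSpecialLinearGroup (Fin 2) F)) ∨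
      (∃ (F : Type) (_ : Field F) (_ : Fintype F), 5 < Fintype.card F ∧
        (Fintype.card F % 8 = 3 ∨ Fintype.card F % 8 = 5) ∧
        Nonempty ((X ⧸ V) ≃* Matrix.ProjectiveSpecialLinearGroup (Fin 2) F)) := by
    rcases hL with hA | hB | ⟨F, iF, iFF, hF, ⟨e⟩⟩ | ⟨F, iF, iFF, hF, ⟨e⟩⟩ | ⟨F, iF, iFF, m, hm, hF, ⟨e⟩⟩
    · exact Or.inr (Or.inl hA)
    · exact Or.inr (Or.inr hB)
    · exact Or.inl (exists_four_psl hF e)
    · obtain ⟨z, hz⟩ := psl34_four hF
      exact Or.inl ⟨e.symm z, by rw [e.symm.orderOf_eq, hz]⟩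
    · obtain ⟨g⟩ := Suzuki.nonempty_equiv hm hF
      obtain ⟨z, hz⟩ := sz_four hm hF
      exact Or.inl ⟨(e.trans g.symm).symm z, by rw [MulEquiv.orderOf_eq, hz]⟩
  by_cases h4 : ∀ x : X, orderOf x ≠ 4
  · -- no element of order 4: the Sylow 2-subgroups are elementary abelian
    exfalso
    by_cases hp2 : p = 2
    · subst hp2
      let S : Sylow 2 X := default
      have hVp : IsPGroup 2 V := fun v => ⟨1, Subtype.ext (by simpa using hV v v.2)⟩
      have hVS : V ≤ (S : Subgroup X) := hVp.le_sylow_of_normal S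
      have hSV : (S : Subgroup X) ≤ V := fun s hs =>
        hC (mem_centralizer_iff.2 fun v hv => commute_of_no_four h4 _ S.2 (hVS hv) hs)
      have hodd : ¬ 2 ∣ Nat.card (X ⧸ V) := by
        rw [← Subgroup.index_eq_card, le_antisymm hVS hSV]
        exact S.not_dvd_index
      exact hodd h2
    obtain ⟨g₀, hg₀⟩ := exists_orderOf_two_mul V hp hp2 hV hC hna h2
    have hno : ∀ n : ℕ, n.Prime → n ≠ 2 → ∀ g : X, orderOf g ≠ n * p := by
      intro n hn hn2 g hg
      rcases eq_or_ne n p with rfl | hnp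
      · have := h.eq_of_dvd hp (x := g₀) (y := g) (hg₀ ▸ dvd_mul_left n 2) (hg ▸ dvd_mul_left n n)
          (by rw [hg₀]; have := hp.two_le; omega)
          (by rw [hg]; intro e; exact hp.ne_one ((Nat.mul_eq_right hp.ne_zero).1 e))
        rw [hg₀, hg] at this
        exact hp2 (Nat.eq_of_mul_eq_mul_right hp.pos this).symm
      · exact h.not_two_partners hp Nat.prime_two hn hp2 hnp.symm hn2.symm ⟨g₀, by rw [hg₀, mul_comm]⟩
          ⟨g, by rw [hg, mul_comm]⟩
    have hQ4 : ∀ q : X ⧸ V, orderOf q ≠ 4 := fun q hq =>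
      let ⟨x, hx⟩ := lift4 ⟨q, hq⟩
      h4 x hx
    let P : Sylow 2 (X ⧸ V) := default
    have hPne : (P : Subgroup (X ⧸ V)) ≠ ⊥ := P.ne_bot_of_dvd_card h2
    obtain ⟨n, hn, hn2, y, hyP, hyn, hy1⟩ : ∃ n : ℕ, n.Prime ∧ n ≠ 2 ∧ ∃ y : X ⧸ V,
        (∀ a ∈ (P : Subgroup (X ⧸ V)), y * a * y⁻¹ ∈ (P : Subgroup (X ⧸ V))) ∧ y ^ n = 1 ∧
        ∀ a ∈ (P : Subgroup (X ⧸ V)), y * a * y⁻¹ = a → a = 1 := by
      rcases hQlist with ⟨q, hq⟩ | ⟨F, iF, iFF, hc2, hq4, ⟨e⟩⟩ | ⟨F, iF, iFF, hq5, hq, ⟨e⟩⟩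
      · exact absurd hq (hQ4 q)
      · obtain ⟨P', -, c2, c3⟩ := PrimeGraphCIT.sylow_transfer e P
        obtain ⟨-, -, d3⟩ := PrimeGraphCIT.psl_sylow P'
        obtain ⟨f, hf2, hf⟩ := FiniteField.card F 2
        obtain ⟨r, hr, hrd⟩ := Nat.exists_prime_and_dvd (show Fintype.card F - 1 ≠ 1 by omega)
        haveI := Fact.mk hr
        obtain ⟨⟨y, hyN⟩, hy⟩ := exists_prime_orderOf_dvd_card'
          (G := normalizer ((P : Subgroup (X ⧸ V)) : Set (X ⧸ V))) r (by
            rw [← c3, d3]; exact hrd.mul_left _)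
        rw [Subgroup.orderOf_mk] at hy
        have hr2 : r ≠ 2 := by
          rintro rfl
          have h2q : 2 ∣ Fintype.card F := hf ▸ dvd_pow_self 2 f.ne_zero
          omega
        refine ⟨r, hr, hr2, y, fun a ha => (mem_normalizer_iff.1 hyN a).1 ha,
          by rw [← hy, pow_orderOf_eq_one], fun a ha he => ?_⟩
        by_contra ha1
        obtain ⟨j, hj⟩ := P.2 ⟨a, ha⟩
        have ha2 : orderOf a = 2 := ((Nat.dvd_prime Nat.prime_two).1 (orderOf_dvd_of_pow_eq_one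
          (sq_eq_one_of_no_four hQ4 (congrArg Subtype.val hj)))).resolve_left
            fun e' => ha1 (orderOf_eq_one_iff.1 e')
        obtain ⟨hcard, -⟩ := psl_even_cent (t := e a) (by rw [e.orderOf_eq, ha2])
        have hyc : e y ∈ centralizer ({e a} : Set _) := mem_centralizer_singleton_iff.2 (by
          rw [← map_mul, ← map_mul, mul_inv_eq_iff_eq_mul.1 he])
        have hd := Subgroup.orderOf_dvd_natCard _ hyc
        rw [hcard, e.orderOf_eq, hy, hf] at hd
        exact hr2 ((Nat.prime_dvd_prime_iff_eq hr Nat.prime_two).1 (hr.dvd_of_dvd_pow hd))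
      · obtain ⟨w, hw, hwP, hwf⟩ := exists_three hq e hQ4 P
        exact ⟨3, Nat.prime_three, by norm_num, w, hwP, by rw [← hw, pow_orderOf_eq_one], hwf⟩
    exact hPne (no_frobenius V hp hV hC Nat.prime_two (Ne.symm hp2) _ P.2 hn.pos hyP hyn
      (fpf_of_prime hn hyn hy1) (hno n hn hn2))
  push Not at h4
  obtain ⟨x₄, hx₄⟩ := h4
  have hcit := h.cit hx₄
  -- the factor is a 2-group
  obtain rfl : p = 2 := by
    by_contra hp2
    have hns' : ¬ Group.IsSolvable X := fun hs =>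
      hns (Group.isSolvable_of_surjective (f := QuotientGroup.mk' V) (QuotientGroup.mk'_surjective V))
    refine hne (hcit.eq_bot_of_solvable (fun H _ _ ho => S0205.result ho) hns' (fun N hN hN2 => ?_) V (Group.isSolvable_of_comm fun a b => mul_comm' a b))
    have hdis : N ⊓ V = ⊥ := by
      refine (Subgroup.eq_bot_iff_forall _).2 fun z hz => ?_
      obtain ⟨hzN, hzV⟩ := Subgroup.mem_inf.1 hz
      obtain ⟨k, hk⟩ := hN2 ⟨z, hzN⟩
      exact orderOf_eq_one_iff.1 (Nat.eq_one_of_dvd_coprimes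
        (((Nat.coprime_primes Nat.prime_two hp).2 (Ne.symm hp2)).pow_left k)
        (orderOf_dvd_of_pow_eq_one (congrArg Subtype.val hk)) (orderOf_dvd_of_pow_eq_one (hV z hzV)))
    rcases (hN.map (QuotientGroup.mk' V) (QuotientGroup.mk'_surjective V)).eq_bot_or_eq_top with hb | ht
    · rw [Subgroup.map_eq_bot_iff, QuotientGroup.ker_mk'] at hb
      rw [← hdis, inf_eq_left.2 hb]
    · exfalso
      have hp2' := hN2.map (QuotientGroup.mk' V)
      rw [ht] at hp2'
      haveI : Group.IsNilpotent (⊤ : Subgroup (X ⧸ V)) := hp2'.isNilpotent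
      exact hns (Group.isSolvable_of_surjective (f := (Subgroup.topEquiv (G := X ⧸ V)).toMonoidHom)
        (MulEquiv.surjective _))
  refine ⟨?_, x₄, hx₄⟩
  have hno3 : ∀ g : X, orderOf g ≠ 3 * 2 := fun g hg => by
    have := h.eq_of_dvd Nat.prime_two (x := x₄) (y := g) (by rw [hx₄]; norm_num) (by rw [hg]; norm_num)
      (by rw [hx₄]; norm_num) (by rw [hg]; norm_num)
    omega
  have hno4 : ∀ g : X, orderOf g ≠ 4 * 2 := fun g hg => by
    have := h.eq_of_dvd Nat.prime_two (x := x₄) (y := g) (by rw [hx₄]; norm_num) (by rw [hg]; norm_num)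
      (by rw [hx₄]; norm_num) (by rw [hg]; norm_num)
    omega
  rcases hL with hA | ⟨F, iF, iFF, hq5, hq, ⟨e⟩⟩ | ⟨F, iF, iFF, hF, ⟨e⟩⟩ | ⟨F, iF, iFF, hF, ⟨e⟩⟩ |
    ⟨F, iF, iFF, m, hm, hF, ⟨e⟩⟩
  · exact hA
  · exfalso
    -- an even torus order other than 4
    obtain ⟨⟨xq, hxq⟩, ⟨yq, hyq⟩⟩ := CITSolv.exists_torus (F := F) (by omega)
    rw [show Nat.gcd 2 (Fintype.card F - 1) = 2 from Nat.gcd_eq_left (by omega), ← e.symm.orderOf_eq] at hxq hyq
    obtain ⟨gx, hgx⟩ := exists_orderOf_quotient V (e.symm xq)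
    obtain ⟨gy, hgy⟩ := exists_orderOf_quotient V (e.symm yq)
    rw [hxq] at hgx
    rw [hyq] at hgy
    rcases hq with hq' | hq'
    · have := h.eq_of_dvd Nat.prime_two (x := x₄) (y := gy) (by rw [hx₄]; norm_num)
        (by rw [hgy]; omega) (by rw [hx₄]; norm_num) (by rw [hgy]; omega)
      omega
    · have := h.eq_of_dvd Nat.prime_two (x := x₄) (y := gx) (by rw [hx₄]; norm_num)
        (by rw [hgx]; omega) (by rw [hx₄]; norm_num) (by rw [hgx]; omega)
      omega
  · exfalso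
    rcases hF with hF | hF
    · obtain ⟨A, y, hA, hyA, hyn, hfpf⟩ := psl_borel (F := F) (by rw [hF]) (n := 3) (by norm_num) (by rw [hF])
      rw [hF] at hA
      have hbot := no_frobenius_equiv V e hp hV hC (show Nat.Prime 7 by norm_num) (by norm_num) A
        (IsPGroup.of_card (n := 1) (by rw [hA, pow_one])) (by norm_num) hyA hyn hfpf hno3
      rw [hbot, Subgroup.card_bot] at hA
      omega
    · obtain ⟨A, y, hA, hyA, hyn, hfpf⟩ := psl_borel (F := F) (by rw [hF]) (n := 4) (by norm_num) (by rw [hF])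
      rw [hF] at hA
      have hbot := no_frobenius_equiv V e hp hV hC Nat.prime_three (by norm_num) A
        (IsPGroup.of_card (n := 2) (by rw [hA]; norm_num)) (by norm_num) hyA hyn hfpf hno4
      rw [hbot, Subgroup.card_bot] at hA
      omega
  · exfalso
    haveI : Fact (Nat.Prime 7) := ⟨by norm_num⟩
    have hc : Nat.card (X ⧸ V) = 7 * 2880 := by
      rw [Nat.card_congr e.toEquiv, PrimeGraphCIT.card_psl_three_four hF]
    have hE : S3992.EPPO (X ⧸ V) := fun g hg => by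
      rw [← e.orderOf_eq]
      exact psl34_eppo hF (e g) fun e' => hg (e.injective (by rw [e', map_one]))
    let P : Sylow 7 (X ⧸ V) := default
    have hP := EPPOClass.sylow_card 7 2880 hc (by norm_num) P
    haveI : Fact (Nat.Prime 3) := ⟨Nat.prime_three⟩
    obtain ⟨⟨y, hyN⟩, hy⟩ := exists_prime_orderOf_dvd_card'
      (G := normalizer ((P : Subgroup (X ⧸ V)) : Set (X ⧸ V))) 3 (by
        exact (dvd_mul_left 3 7).trans (dvd_of_eq (EPPOClass.sylow_normalizer hE 7 2880 3 hc (by norm_num) (by decide) P).symm))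
    rw [Subgroup.orderOf_mk] at hy
    have hy3 : y ^ 3 = 1 := by rw [← hy, pow_orderOf_eq_one]
    have hfix : ∀ a ∈ (P : Subgroup (X ⧸ V)), y * a * y⁻¹ = a → a = 1 := by
      intro a ha he
      by_contra ha1
      have ho : orderOf a = 7 := by
        have hd := Subgroup.orderOf_dvd_natCard _ ha
        rw [hP] at hd
        exact ((Nat.dvd_prime (by norm_num)).1 hd).resolve_left fun e' => ha1 (orderOf_eq_one_iff.1 e')
      have h21 := orderOf_mul_primes Nat.prime_three (show Nat.Prime 7 by norm_num) (by norm_num) hy ho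
        (mul_inv_eq_iff_eq_mul.1 he)
      rcases psl34_orders hF (e (y * a)) with hd | hd | hd | hd <;> rw [e.orderOf_eq, h21] at hd <;> norm_num at hd
    have hbot := no_frobenius V hp hV hC (show Nat.Prime 7 by norm_num) (by norm_num) _ P.2 (by norm_num)
      (fun a ha => (mem_normalizer_iff.1 hyN a).1 ha) hy3 (fpf_of_prime Nat.prime_three hy3 hfix) hno3
    rw [hbot, Subgroup.card_bot] at hP
    omega
  · exfalso
    obtain ⟨g⟩ := Suzuki.nonempty_equiv hm hF
    obtain ⟨ℓ, A, y, hℓ, hℓ2, hA, hyA, hy4, hfpf⟩ := sz_frobenius hm hF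
    haveI := Fact.mk hℓ
    have hbot := no_frobenius_equiv V (e.trans g.symm) hp hV hC hℓ hℓ2 A
      (IsPGroup.of_card (n := 1) (by rw [hA, pow_one])) (by norm_num) hyA hy4 hfpf hno4
    rw [hbot, Subgroup.card_bot] at hA
    exact hℓ.ne_one hA.symm

end Cfsg.Agent.ThreeOrders
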